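import Mathlib

/-! Farkas' lemma over an ordered field (Bartl's induction), and separation from a finite convex
hull. -/

set_option autoImplicit false

namespace Groth.Agent.RootCh

variable {R V : Type*} [Field R] [LinearOrder R] [IsStrictOrderedRing R] [AddCommGroup V]
  [Module R V]

theorem farkas : ∀ (n : ℕ) (a : Fin n → V) (c : V),
    (∃ l : Fin n → R, (∀ i, 0 ≤ l i) ∧ ∑ i, l i • a i = c) ∨
      ∃ f : Module.Dual R V, (∀ i, 0 ≤ f (a i)) ∧ f c < 0 := by
  intro n
  induction n with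
  | zero =>
    intro a c
    by_cases hc : c = 0
    · exact Or.inl ⟨fun i => i.elim0, fun i => i.elim0, by simp [hc]⟩
    · obtain ⟨f, hf⟩ : ∃ f : Module.Dual R V, f c ≠ 0 := by
        by_contra! h
        exact hc ((Module.forall_dual_apply_eq_zero_iff R c).mp h)
      exact Or.inr ⟨-(f c)⁻¹ • f, fun i => i.elim0, by
        rw [LinearMap.smul_apply, smul_eq_mul, neg_mul, inv_mul_cancel₀ hf]; exact neg_one_lt_zero⟩
  | succ n ih =>
    intro a c
    rcases ih (fun i => a i.succ) c with ⟨l, hl, hsum⟩ | ⟨f, hf, hfc⟩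
    · refine Or.inl ⟨Fin.cons 0 l, Fin.cases le_rfl hl, ?_⟩
      simpa [Fin.sum_univ_succ] using hsum
    by_cases h0 : 0 ≤ f (a 0)
    · exact Or.inr ⟨f, Fin.cases h0 hf, hfc⟩
    have h0' : f (a 0) < 0 := not_le.mp h0
    let pr : V →ₗ[R] V := LinearMap.id - (f (a 0))⁻¹ • (f.smulRight (a 0))
    have hpr : ∀ v, pr v = v - ((f (a 0))⁻¹ * f v) • a 0 := fun v => by
      simp [pr, smul_smul]
    rcases ih (fun i => pr (a i.succ)) (pr c) with ⟨l, hl, hsum⟩ | ⟨g, hg, hgc⟩
    · left
      refine ⟨Fin.cons ((f (a 0))⁻¹ * (f c - ∑ i, l i * f (a i.succ))) l, Fin.cases ?h1 hl, ?h2⟩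
      case h1 =>
        simp only [Fin.cons_zero]
        refine mul_nonneg_of_nonpos_of_nonpos (inv_nonpos.mpr h0'.le) ?_
        have := Finset.sum_nonneg fun i (_ : i ∈ Finset.univ) => mul_nonneg (hl i) (hf i)
        linarith
      case h2 =>
        rw [Fin.sum_univ_succ]
        simp only [Fin.cons_zero, Fin.cons_succ]
        simp only [hpr, smul_sub, Finset.sum_sub_distrib, smul_smul, ← Finset.sum_smul] at hsum
        rw [sub_eq_iff_eq_add] at hsum
        rw [hsum, mul_sub, Finset.mul_sum, sub_smul]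
        have : ∀ i, l i * ((f (a 0))⁻¹ * f (a i.succ)) = (f (a 0))⁻¹ * (l i * f (a i.succ)) :=
          fun i => by ring
        simp only [this]
        abel
    · refine Or.inr ⟨g.comp pr, Fin.cases ?_ hg, hgc⟩
      simp [hpr, h0'.ne]

theorem exists_separating {κ : Type*} [Finite κ] (p : κ → V) {y : V}
    (hy : y ∉ convexHull R (Set.range p)) : ∃ φ : Module.Dual R V, ∀ i, φ y < φ (p i) := by
  obtain ⟨n, ⟨e⟩⟩ := Finite.exists_equiv_fin κ
  rcases farkas (R := R) n (fun i => (p (e.symm i), (1 : R))) (y, (1 : R)) with ⟨l, hl, hsum⟩ | ⟨f, hf, hfc⟩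
  · exfalso
    have h1 := congrArg Prod.fst hsum
    have h2 := congrArg Prod.snd hsum
    simp only [Prod.fst_sum, Prod.smul_fst, Prod.snd_sum, Prod.smul_snd, smul_eq_mul,
      mul_one] at h1 h2
    apply hy
    rw [← h1]
    exact (convex_convexHull R _).sum_mem (fun i _ => hl i) h2
      fun i _ => subset_convexHull R _ ⟨_, rfl⟩
  · refine ⟨f.comp (LinearMap.inl R V R), fun i => ?_⟩
    have hi := hf (e i)
    simp only [Equiv.symm_apply_apply] at hi
    have hs : ∀ v : V, f (v, (1 : R)) = f (v, 0) + f (0, 1) := fun v => by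
      rw [← map_add]; simp
    rw [hs] at hi hfc
    simp only [LinearMap.comp_apply, LinearMap.inl_apply]
    linarith

end Groth.Agent.RootCh
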