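import Groth.Agent.RootCh.Core

set_option autoImplicit false

noncomputable section

namespace Groth.Agent.RootCh

open RootPairing Module Set

variable {ι R M N : Type*} [Field R] [LinearOrder R] [IsStrictOrderedRing R]
  [AddCommGroup M] [Module R M] [AddCommGroup N] [Module R N] [Finite ι]
  {P : RootPairing ι R M N} [P.IsRootSystem] [P.IsCrystallographic] [P.IsReduced]

theorem exists_base (ξ : M) (hξ : ∀ i, P.coroot' i ξ ≠ 0) :
    ∃ b : P.Base, ∀ j ∈ b.support, 0 < P.coroot' j ξ := by
  classical
  haveI := Fintype.ofFinite ι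
  let g : M →ₗ[R] R := (ip P).flip ξ
  have hg : ∀ i, g (P.root i) = len P i * P.coroot' i ξ := fun i => ip_root P ξ i
  have hg0 : ∀ i, g (P.root i) ≠ 0 := fun i => by
    rw [hg]; exact mul_ne_zero (len_pos P i).ne' (hξ i)
  let S : Set ι := {i | 0 < g (P.root i) ∧ ∀ j k, 0 < g (P.root j) → 0 < g (P.root k) →
    P.root i ≠ P.root j + P.root k}
  have key : ∀ n, ∀ i, (Finset.univ.filter fun k => g (P.root k) < g (P.root i)).card = n →
      0 < g (P.root i) → P.root i ∈ AddSubmonoid.closure (P.root '' S) := by
    intro n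
    induction n using Nat.strong_induction_on with
    | _ n ih =>
      intro i hn hi
      by_cases hS : i ∈ S
      · exact AddSubmonoid.subset_closure (mem_image_of_mem _ hS)
      · simp only [S, Set.mem_ofPred_eq, not_and, not_forall, not_not] at hS
        obtain ⟨j, k, hj, hk, he⟩ := hS hi
        have hlt : ∀ a, g (P.root a) < g (P.root i) →
            (Finset.univ.filter fun k => g (P.root k) < g (P.root a)).card < n := by
          intro a ha
          rw [← hn]
          refine Finset.card_lt_card ⟨fun x hx => ?_, fun hsub => ?_⟩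
          · simp only [Finset.mem_filter, Finset.mem_univ, true_and] at hx ⊢
            exact hx.trans ha
          · have := hsub (Finset.mem_filter.mpr ⟨Finset.mem_univ a, ha⟩)
            simp at this
        rw [he]
        refine add_mem (ih _ (hlt j ?_) j rfl hj) (ih _ (hlt k ?_) k rfl hk)
        · rw [he, map_add]; linarith
        · rw [he, map_add]; linarith
  have hsp : ∀ i, P.root i ∈ AddSubmonoid.closure (P.root '' S) ∨
      -P.root i ∈ AddSubmonoid.closure (P.root '' S) := by
    intro i
    rcases (hg0 i).lt_or_gt with h | h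
    · right
      rw [← root_opp]
      refine key _ _ rfl ?_
      rw [root_opp, map_neg]; linarith
    · exact Or.inl (key _ _ rfl h)
  have hpair : Pairwise fun i j : S => ip P (P.root i) (P.root j) ≤ 0 := by
    intro i j hij
    by_contra hlt
    rw [not_le, ip_root] at hlt
    have hne : (i : ι) ≠ j := fun h => hij (Subtype.ext h)
    have hp : P.coroot' i (P.root j) = P.pairing j i := P.root_coroot'_eq_pairing i j
    rw [hp] at hlt
    have hpos : 0 < P.pairingIn ℤ j i := by
      have h := pos_of_mul_pos_right hlt (len_pos P _).le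
      rw [← P.algebraMap_pairingIn ℤ] at h
      simpa using h
    obtain ⟨k, hk⟩ := P.root_sub_root_mem_of_pairingIn_pos hpos hne.symm
    rcases (hg0 k).lt_or_gt with h | h
    · refine i.2.2 j (P.reflectionPerm k k) j.2.1 ?_ ?_
      · rw [root_opp, map_neg]; linarith
      · rw [root_opp, hk]; abel
    · refine j.2.2 i k i.2.1 h ?_
      rw [hk]; abel
  have hli : LinearIndepOn R P.root S := by
    refine LinearMap.BilinForm.linearIndependent_of_pairwise_le_zero (ip P) ?_ g
      (fun i : S => P.root i) (fun i => i.2.1) hpair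
    intro x hx
    exact ip_pos P hx
  refine ⟨RootPairing.Base.mk' P S hli hsp, fun j hj => ?_⟩
  have hjS : j ∈ S := (Set.toFinite S).mem_toFinset.mp hj
  have := hjS.1
  rw [hg] at this
  exact pos_of_mul_pos_right this (len_pos P j).le

variable (b : P.Base)

omit [P.IsCrystallographic] [P.IsReduced] in
theorem coroot'_neg_of_not_isPos {ξ : M} (hξ : ∀ j ∈ b.support, 0 < P.coroot' j ξ) {i : ι}
    (hi : ¬ b.IsPos i) : P.coroot' i ξ < 0 := by
  have h := coroot'_pos b hξ ((isPos_opp b i).mpr hi)
  rw [coroot'_opp] at h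
  linarith

omit [P.IsCrystallographic] [P.IsReduced] in
theorem isPos_iff_coroot'_pos {ξ : M} (hξ : ∀ j ∈ b.support, 0 < P.coroot' j ξ) (i : ι) :
    b.IsPos i ↔ 0 < P.coroot' i ξ :=
  ⟨coroot'_pos b hξ, fun h => by
    by_contra hn
    exact lt_asymm h (coroot'_neg_of_not_isPos b hξ hn)⟩

/-- `ρ`. -/
def rho : M := ∑ j : b.support, RootCh.fundWeight b j

omit [P.IsCrystallographic] [P.IsReduced] [LinearOrder R] [IsStrictOrderedRing R] [Finite ι] in
theorem coroot'_sum_fundWeight (c : b.support → R) (j : b.support) :
    P.coroot' j (∑ k : b.support, c k • RootCh.fundWeight b k) = c j := by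
  classical
  rw [map_sum, Finset.sum_eq_single j]
  · rw [map_smul, RootCh.coroot'_fundWeight_self, smul_eq_mul, mul_one]
  · intro k _ hk
    rw [map_smul, RootCh.coroot'_fundWeight_of_ne b k j (Ne.symm hk), smul_zero]
  · simp

omit [P.IsCrystallographic] [P.IsReduced] in
theorem coroot'_rho {j : ι} (hj : j ∈ b.support) : P.coroot' j (rho b) = 1 := by
  have h := coroot'_sum_fundWeight b (fun _ => 1) ⟨j, hj⟩
  simpa [rho] using h

omit [P.IsCrystallographic] [P.IsReduced] in
theorem rho_pos : ∀ j ∈ b.support, 0 < P.coroot' j (rho b) := fun j hj => by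
  rw [coroot'_rho b hj]; exact one_pos

/-- A base is determined by its positive roots. -/
theorem support_subset {b b' : P.Base} (h : ∀ i, b.IsPos i ↔ b'.IsPos i) :
    b.support ⊆ b'.support := by
  intro i hi
  have hp : b'.IsPos i := (h i).mp (RootPairing.Base.isPos_of_mem_support hi)
  have key : ∀ i, b'.IsPos i → i ∈ b'.support ∨
      ∃ j k, b'.IsPos j ∧ b'.IsPos k ∧ P.root i = P.root j + P.root k := by
    intro i hi
    exact (RootPairing.Base.IsPos.induction_on_add hi (p := fun i => b'.IsPos i ∧ (i ∈ b'.support ∨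
      ∃ j k, b'.IsPos j ∧ b'.IsPos k ∧ P.root i = P.root j + P.root k))
      (fun i hi => ⟨RootPairing.Base.isPos_of_mem_support hi, Or.inl hi⟩)
      fun i j k hk hpi hj => ⟨hpi.1.add (RootPairing.Base.isPos_of_mem_support hj) hk,
        Or.inr ⟨i, j, hpi.1, RootPairing.Base.isPos_of_mem_support hj, hk⟩⟩).2
  rcases key i hp with hh | ⟨j, k, hj, hk, he⟩
  · exact hh
  · exfalso
    have h1 := b.height_add he
    rw [RootPairing.Base.height_one_of_mem_support hi] at h1
    have hj' := (h j).mpr hj
    have hk' := (h k).mpr hk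
    rw [RootPairing.Base.isPos_iff] at hj' hk'
    omega

theorem base_ext {b b' : P.Base} (h : ∀ i, b.IsPos i ↔ b'.IsPos i) : b = b' := by
  have hs : b.support = b'.support :=
    Finset.Subset.antisymm (support_subset h) (support_subset fun i => (h i).symm)
  cases b; cases b'
  simp only at hs
  subst hs
  rfl

theorem exists_neighbour {j : ι} (hj : j ∈ b.support) :
    ∃ b' : P.Base, ∀ i, b'.IsPos i ↔ b.IsPos (P.reflectionPerm j i) := by
  have hreg : ∀ i, P.coroot' i (P.reflection j (rho b)) ≠ 0 := fun i => by
    rw [P.coroot'_reflection]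
    by_cases h : b.IsPos (P.reflectionPerm j i)
    · exact (coroot'_pos b (rho_pos b) h).ne'
    · exact (coroot'_neg_of_not_isPos b (rho_pos b) h).ne
  obtain ⟨b', hb'⟩ := exists_base _ hreg
  refine ⟨b', fun i => ?_⟩
  rw [isPos_iff_coroot'_pos b' hb', P.coroot'_reflection, ← isPos_iff_coroot'_pos b (rho_pos b)]

theorem neighbour_isPos_iff {j : ι} (hj : j ∈ b.support) {b' : P.Base}
    (hb' : ∀ i, b'.IsPos i ↔ b.IsPos (P.reflectionPerm j i)) (i : ι) :
    b'.IsPos i ↔ (b.IsPos i ∧ i ≠ j) ∨ i = P.reflectionPerm j j := by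
  rw [hb']
  have hjp := RootPairing.Base.isPos_of_mem_support hj
  rcases eq_or_ne i j with rfl | hij
  · have hne : i ≠ P.reflectionPerm i i := fun h => by
      have := (isPos_opp b i).mp (h ▸ hjp); exact this hjp
    simp [isPos_opp, hjp, hne]
  rcases eq_or_ne i (P.reflectionPerm j j) with rfl | hij'
  · simp only [or_true, iff_true]
    rw [show P.reflectionPerm j (P.reflectionPerm j j) = j from
      P.root.injective (by rw [P.root_reflectionPerm, P.root_reflectionPerm, P.reflection_apply_self,
        map_neg, P.reflection_apply_self, neg_neg])]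
    exact hjp
  · simp only [ne_eq, hij, not_false_eq_true, and_true, hij', or_false]
    constructor
    · intro h
      have hne : P.reflectionPerm j i ≠ j := fun h' => hij' (by
        have e : P.reflectionPerm j (P.reflectionPerm j i) = i :=
          P.root.injective (by simp [P.root_reflectionPerm])
        rw [← e, h'])
      have := h.reflectionPerm hj hne
      rwa [show P.reflectionPerm j (P.reflectionPerm j i) = i from
        P.root.injective (by simp [P.root_reflectionPerm])] at this
    · exact fun h => h.reflectionPerm hj hij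

theorem neighbour_mem_support {j : ι} (hj : j ∈ b.support) {b' : P.Base}
    (hb' : ∀ i, b'.IsPos i ↔ b.IsPos (P.reflectionPerm j i)) :
    P.reflectionPerm j j ∈ b'.support := by
  classical
  have hpos : b'.IsPos (P.reflectionPerm j j) :=
    (neighbour_isPos_iff b hj hb' _).mpr (Or.inr rfl)
  by_contra hns
  -- otherwise it is a sum of two positive roots of `b'`
  obtain ⟨a, c, ha, hc, he⟩ : ∃ a c, b'.IsPos a ∧ b'.IsPos c ∧
      P.root (P.reflectionPerm j j) = P.root a + P.root c := by
    have key := (RootPairing.Base.IsPos.induction_on_add hpos (p := fun i => b'.IsPos i ∧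
      (i ∈ b'.support ∨ ∃ a c, b'.IsPos a ∧ b'.IsPos c ∧ P.root i = P.root a + P.root c))
      (fun i hi => ⟨RootPairing.Base.isPos_of_mem_support hi, Or.inl hi⟩)
      fun i k l hl hpi hk => ⟨hpi.1.add (RootPairing.Base.isPos_of_mem_support hk) hl,
        Or.inr ⟨i, k, hpi.1, RootPairing.Base.isPos_of_mem_support hk, hl⟩⟩).2
    exact key.resolve_left hns
  rw [hb'] at ha hc
  have h := congrArg (P.reflection j) he
  rw [map_add, ← P.root_reflectionPerm, ← P.root_reflectionPerm, ← P.root_reflectionPerm,
    show P.reflectionPerm j (P.reflectionPerm j j) = j from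
      P.root.injective (by rw [P.root_reflectionPerm, P.root_reflectionPerm, P.reflection_apply_self,
        map_neg, P.reflection_apply_self, neg_neg])] at h
  have h1 := b.height_add h
  rw [RootPairing.Base.height_one_of_mem_support hj] at h1
  rw [RootPairing.Base.isPos_iff] at ha hc
  omega

theorem coroot'_int (j : b.support) (i : ι) : ∃ n : ℤ, P.coroot' i (RootCh.fundWeight b j) = n := by
  classical
  have h : ∀ y ∈ Submodule.span ℤ (P.coroot '' b.support),
      ∃ n : ℤ, P.toLinearMap (RootCh.fundWeight b j) y = n := by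
    intro y hy
    induction hy using Submodule.span_induction with
    | mem y hy =>
      obtain ⟨k, hk, rfl⟩ := hy
      change ∃ n : ℤ, P.coroot' k (RootCh.fundWeight b j) = n
      rcases eq_or_ne (⟨k, hk⟩ : b.support) j with rfl | hne
      · exact ⟨1, by rw [Int.cast_one]; exact RootCh.coroot'_fundWeight_self b ⟨k, hk⟩⟩
      · exact ⟨0, by rw [Int.cast_zero]; exact RootCh.coroot'_fundWeight_of_ne b j ⟨k, hk⟩ hne⟩
    | zero => exact ⟨0, by simp⟩
    | add x y _ _ hx hy =>
      obtain ⟨n, hn⟩ := hx; obtain ⟨m, hm⟩ := hy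
      exact ⟨n + m, by rw [map_add, hn, hm, Int.cast_add]⟩
    | smul c x _ hx =>
      obtain ⟨n, hn⟩ := hx
      exact ⟨c * n, by rw [map_zsmul, hn, zsmul_eq_mul, Int.cast_mul]⟩
  exact h _ (b.coroot_mem_span_int i)

theorem fundWeight_mem_closedChamber (j : b.support) :
    RootCh.fundWeight b j ∈ RootCh.closedChamber b := by
  intro k hk
  rcases eq_or_ne (⟨k, hk⟩ : b.support) j with rfl | hne
  · exact (RootCh.coroot'_fundWeight_self b ⟨k, hk⟩).ge.trans' zero_le_one
  · exact (RootCh.coroot'_fundWeight_of_ne b j ⟨k, hk⟩ hne).ge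

theorem fundWeight_injective : Function.Injective (RootCh.fundWeight b) := by
  intro i j h
  by_contra hne
  have h1 := RootCh.coroot'_fundWeight_self b i
  rw [h, RootCh.coroot'_fundWeight_of_ne b j i hne] at h1
  exact zero_ne_one h1

/-- A fundamental weight in the closed chamber of `b` is a fundamental weight of `b`. -/
theorem baseCorners_eq : RootCh.baseCorners b = Set.range (RootCh.fundWeight b) := by
  classical
  refine Set.Subset.antisymm ?_ ?_
  swap
  · rintro _ ⟨j, rfl⟩
    exact ⟨⟨b, j, rfl⟩, fundWeight_mem_closedChamber b j⟩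
  rintro w ⟨⟨b', i, rfl⟩, hw⟩
  set w := RootCh.fundWeight b' i with hwdef
  set c : b.support → R := fun j => P.coroot' j w with hc
  have hw0 : P.coroot' i w = 1 := RootCh.coroot'_fundWeight_self b' i
  have hex : ∃ j, 0 < c j := by
    by_contra hall
    push Not at hall
    have h0 : w = 0 := by
      rw [exists_sum_fundWeight b w]
      exact Finset.sum_eq_zero fun j _ => by
        change c j • _ = 0
        rw [le_antisymm (hall j) (hw j j.2), zero_smul]
    rw [h0, map_zero] at hw0
    exact zero_ne_one hw0
  obtain ⟨j₀, hj₀⟩ := hex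
  -- the coroots orthogonal to `w`
  let ψ : M →ₗ[R] (↥(b'.support.erase i) → R) := LinearMap.pi fun k => P.coroot' k
  have huniq : ∀ j, 0 < c j → j = j₀ := by
    intro j hj
    by_contra hne
    have hvan : ∀ (k : ι), P.coroot' k w = 0 → ∀ v : b.support, 0 < c v → cf b k v = 0 := by
      intro k hk v hv
      by_cases hp : b.IsPos k
      · exact (coroot'_eq_zero_iff b hw hp).mp hk v v.2 hv
      · have h' := (coroot'_eq_zero_iff b hw ((isPos_opp b k).mpr hp)).mp
          (by rw [coroot'_opp, hk, neg_zero]) v v.2 hv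
        have he : cf b (P.reflectionPerm k k) v = -cf b k v := by
          refine cf_eq b (g := fun a => -cf b k a) ?_ v.2
          rw [root_opp, cf_spec b k]
          simp [Finset.sum_neg_distrib, cf_spec b k]
        omega
    -- `fundWeight j₀` and `fundWeight j` are killed by all coroots orthogonal to `w`
    have hkill : ∀ v : b.support, 0 < c v → ∀ k : b'.support, k ≠ i →
        P.coroot' k (RootCh.fundWeight b v) = 0 := by
      intro v hv k hk
      rw [coroot'_eq_sum b]
      refine Finset.sum_eq_zero fun a ha => ?_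
      rcases eq_or_ne (⟨a, ha⟩ : b.support) v with rfl | hav
      · rw [hvan k (RootCh.coroot'_fundWeight_of_ne b' i k hk) ⟨a, ha⟩ hv]; simp
      · have := RootCh.coroot'_fundWeight_of_ne b v ⟨a, ha⟩ hav
        simp only at this
        rw [this, mul_zero]
    have hprop : ∀ v : b.support, 0 < c v →
        RootCh.fundWeight b v = P.coroot' i (RootCh.fundWeight b v) • w := by
      intro v hv
      conv_lhs => rw [exists_sum_fundWeight b' (RootCh.fundWeight b v)]
      rw [Finset.sum_eq_single i]
      · intro k _ hk; rw [hkill v hv k hk, zero_smul]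
      · simp
    have h1 := congrArg (P.coroot' j) (hprop j hj)
    have h2 := congrArg (P.coroot' j) (hprop j₀ hj₀)
    rw [map_smul, RootCh.coroot'_fundWeight_self] at h1
    rw [map_smul, RootCh.coroot'_fundWeight_of_ne b j₀ j hne] at h2
    have hcj : P.coroot' j w ≠ 0 := hj.ne'
    have h3 : P.coroot' i (RootCh.fundWeight b j₀) = 0 := by
      exact (smul_eq_zero.mp h2.symm).resolve_right hcj
    have h4 := congrArg (P.coroot' j₀) (hprop j₀ hj₀)
    rw [map_smul, RootCh.coroot'_fundWeight_self, h3, zero_smul] at h4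
    exact one_ne_zero h4
  have hweq : w = c j₀ • RootCh.fundWeight b j₀ := by
    conv_lhs => rw [exists_sum_fundWeight b w]
    rw [Finset.sum_eq_single j₀]
    · intro k _ hk
      change c k • _ = 0
      rw [le_antisymm (not_lt.mp fun h => hk (huniq k h)) (hw k k.2), zero_smul]
    · simp
  obtain ⟨n, hn⟩ := coroot'_int b' i j₀
  obtain ⟨m, hm⟩ := coroot'_int b j₀ i
  have h5 : (n : R) * m = 1 := by
    rw [← hn, ← hm]
    conv_rhs => rw [← hw0, hweq, map_smul, smul_eq_mul]
  have h6 : n * m = 1 := by exact_mod_cast h5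
  have hn0 : (0 : R) < n := hn ▸ hj₀
  have hn1 : n = 1 := Int.eq_one_of_mul_eq_one_right (by exact_mod_cast hn0.le) h6
  refine ⟨j₀, ?_⟩
  rw [hweq, show c j₀ = (n : R) from hn, hn1, Int.cast_one, one_smul]

omit [P.IsReduced] in
/-- A sum over a `s_j`-stable set of roots pairs to zero with `α̌_j`. -/
theorem coroot'_sum_invariant (S : Finset ι) (j : ι) (hS : ∀ i ∈ S, P.reflectionPerm j i ∈ S) :
    P.coroot' j (∑ i ∈ S, P.root i) = 0 := by
  have h : P.reflection j (∑ i ∈ S, P.root i) = ∑ i ∈ S, P.root i := by
    rw [map_sum]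
    refine Finset.sum_nbij' (P.reflectionPerm j) (P.reflectionPerm j) hS hS ?_ ?_ ?_
    · intro i _; exact P.root.injective (by simp [P.root_reflectionPerm])
    · intro i _; exact P.root.injective (by simp [P.root_reflectionPerm])
    · intro i _; rw [P.root_reflectionPerm]
  rw [P.reflection_apply, sub_eq_self] at h
  rcases smul_eq_zero.mp h with h' | h'
  · exact h'
  · exact absurd h' (P.ne_zero j)

omit [P.IsReduced] in
theorem coroot'_posSum [P.IsReduced] {j : ι} (hj : j ∈ b.support) :
    P.coroot' j (∑ i ∈ (Set.toFinite {i | b.IsPos i}).toFinset, P.root i) = 2 := by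
  classical
  have hmem : j ∈ (Set.toFinite {i | b.IsPos i}).toFinset := by
    simpa using RootPairing.Base.isPos_of_mem_support hj
  rw [← Finset.add_sum_erase _ _ hmem, map_add, coroot'_sum_invariant _ j, add_zero,
    P.root_coroot'_eq_pairing, P.pairing_same]
  intro i hi
  simp only [Finset.mem_erase, Set.Finite.mem_toFinset, Set.mem_ofPred_eq] at hi ⊢
  refine ⟨fun h => ?_, hi.2.reflectionPerm hj hi.1⟩
  have : i = P.reflectionPerm j j := by
    have e : P.reflectionPerm j (P.reflectionPerm j i) = i :=
      P.root.injective (by simp [P.root_reflectionPerm])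
    rw [← e, h]
  exact (isPos_opp b j).mp (this ▸ hi.2) (RootPairing.Base.isPos_of_mem_support hj)

end Groth.Agent.RootCh
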