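import Groth.Prelude.Def_RootCh2
import Mathlib

set_option autoImplicit false

noncomputable section

namespace Groth.Agent.RootCh

open RootPairing Module Set

variable {ι R M N : Type*} [Field R] [LinearOrder R] [IsStrictOrderedRing R]
  [AddCommGroup M] [Module R M] [AddCommGroup N] [Module R N] [Finite ι]

section

variable (P : RootPairing ι R M N) [P.IsRootSystem]

/-- The polarisation `M ≃ N`. -/
def pol : M ≃ₗ[R] N :=
  letI := Fintype.ofFinite ι
  P.PolarizationEquiv

/-- The invariant scalar product on `M`. -/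
def ip : LinearMap.BilinForm R M :=
  letI := Fintype.ofFinite ι
  P.RootForm

/-- Half the squared length of a root. -/
def len (i : ι) : R := ip P (P.root i) (P.root i) / 2

theorem pair_pol (x y : M) : P.toLinearMap x (pol P y) = ip P y x := by
  letI := Fintype.ofFinite ι
  show P.toLinearMap x (P.PolarizationEquiv y) = P.RootForm y x
  rw [P.polarizationEquiv_apply, P.toLinearMap_apply_apply_Polarization]

theorem ip_comm (x y : M) : ip P x y = ip P y x := by
  letI := Fintype.ofFinite ι
  show P.RootForm x y = P.RootForm y x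
  simpa using P.rootForm_symmetric.eq x y

theorem ip_pos {x : M} (hx : x ≠ 0) : 0 < ip P x x := by
  letI := Fintype.ofFinite ι
  exact P.rootForm_pos_of_ne_zero (by simp) hx

theorem ip_nonneg (x : M) : 0 ≤ ip P x x := by
  rcases eq_or_ne x 0 with rfl | h
  · simp
  · exact (ip_pos P h).le

theorem len_pos (i : ι) : 0 < len P i :=
  div_pos (ip_pos P (P.ne_zero i)) two_pos

theorem pol_root (i : ι) : pol P (P.root i) = len P i • P.coroot i := by
  letI := Fintype.ofFinite ι
  rw [P.coroot_eq_polarizationEquiv_apply_root i, smul_smul]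
  show _ = (P.RootForm (P.root i) (P.root i) / 2 * _) • _
  have h : P.RootForm (P.root i) (P.root i) ≠ 0 := (ip_pos P (P.ne_zero i)).ne'
  rw [div_mul_div_comm, mul_comm, div_self (mul_ne_zero two_ne_zero h), one_smul]
  rfl

theorem ip_root (ξ : M) (i : ι) : ip P (P.root i) ξ = len P i * P.coroot' i ξ := by
  rw [← pair_pol, pol_root, map_smul, smul_eq_mul]; rfl

theorem root'_pol (ξ : M) (i : ι) : P.root' i (pol P ξ) = len P i * P.coroot' i ξ := by
  show P.toLinearMap (P.root i) (pol P ξ) = _
  rw [pair_pol, ip_comm, ip_root]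

end

variable {P : RootPairing ι R M N}

theorem root_opp (i : ι) : P.root (P.reflectionPerm i i) = -P.root i := by
  rw [P.root_reflectionPerm, P.reflection_apply_self]

theorem coroot_opp (i : ι) : P.coroot (P.reflectionPerm i i) = -P.coroot i := by
  rw [P.coroot_reflectionPerm, P.coreflection_apply_self]

theorem coroot'_opp (i : ι) (ξ : M) : P.coroot' (P.reflectionPerm i i) ξ = -P.coroot' i ξ := by
  show P.toLinearMap ξ (P.coroot _) = -P.toLinearMap ξ (P.coroot i)
  rw [coroot_opp, map_neg]

theorem root'_opp (i : ι) (y : N) : P.root' (P.reflectionPerm i i) y = -P.root' i y := by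
  show P.toLinearMap (P.root _) y = -P.toLinearMap (P.root i) y
  rw [root_opp, map_neg, LinearMap.neg_apply]

theorem opp_opp (i : ι) :
    P.reflectionPerm (P.reflectionPerm i i) (P.reflectionPerm i i) = i :=
  P.root.injective (by rw [root_opp, root_opp, neg_neg])

variable (b : P.Base)

theorem isPos_opp (i : ι) : b.IsPos (P.reflectionPerm i i) ↔ ¬ b.IsPos i := by
  letI := P.indexNeg
  exact RootPairing.Base.IsPos.neg_iff_not b i

/-- Coefficients of a root on a base. -/
def cf (i : ι) : ι → ℤ := (b.exists_root_eq_sum_int i).choose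

theorem cf_spec (i : ι) : P.root i = ∑ j ∈ b.support, cf b i j • P.root j :=
  (b.exists_root_eq_sum_int i).choose_spec.2.2

theorem cf_height (i : ι) : b.height i = ∑ j ∈ b.support, cf b i j :=
  RootPairing.Base.height_eq_sum (cf_spec b i)

theorem cf_nonneg {i : ι} (hi : b.IsPos i) (j : ι) : 0 ≤ cf b i j := by
  rcases (b.exists_root_eq_sum_int i).choose_spec.2.1 with h | h
  · exact h.le j
  · exfalso
    rw [RootPairing.Base.isPos_iff, cf_height] at hi
    exact absurd hi (not_lt.mpr (Finset.sum_nonpos fun k _ => h.le k))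

theorem cf_nonpos {i : ι} (hi : ¬ b.IsPos i) (j : ι) : cf b i j ≤ 0 := by
  rcases (b.exists_root_eq_sum_int i).choose_spec.2.1 with h | h
  · exfalso
    apply hi
    rw [RootPairing.Base.isPos_iff']
    rw [cf_height]
    exact Finset.sum_nonneg fun k _ => h.le k
  · exact h.le j

theorem cf_eq {i : ι} {g : ι → ℤ} (h : P.root i = ∑ j ∈ b.support, g j • P.root j) {j : ι}
    (hj : j ∈ b.support) : cf b i j = g j := by
  classical
  rw [cf_spec b i, b.support.sum_subtype (p := (· ∈ b.support)) (by simp) (F := inferInstance),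
    b.support.sum_subtype (p := (· ∈ b.support)) (by simp) (F := inferInstance)] at h
  exact Fintype.linearIndependent_iffₛ.mp (b.linearIndepOn_root.restrict_scalars' ℤ)
      (cf b i ∘ (↑)) (g ∘ (↑)) (by simpa using h) ⟨j, hj⟩

theorem cf_simple {i j : ι} (hi : i ∈ b.support) (hj : j ∈ b.support) [DecidableEq ι] :
    cf b i j = if j = i then 1 else 0 := by
  refine cf_eq b (g := fun k => if k = i then 1 else 0) ?_ hj
  rw [Finset.sum_eq_single i (fun k _ hk => by simp [hk]) (fun h => absurd hi h)]
  simp

variable [P.IsRootSystem]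

theorem root'_eq_sum (i : ι) (y : N) :
    P.root' i y = ∑ j ∈ b.support, (cf b i j : R) * P.root' j y := by
  show P.toLinearMap (P.root i) y = _
  conv_lhs => rw [cf_spec b i]
  rw [map_sum, LinearMap.sum_apply]
  exact Finset.sum_congr rfl fun j _ => by
    rw [map_zsmul, LinearMap.smul_apply, zsmul_eq_mul]

theorem coroot'_eq_sum (i : ι) (ξ : M) :
    P.coroot' i ξ =
      ∑ j ∈ b.support, ((cf b i j : R) * (len P j / len P i)) * P.coroot' j ξ := by
  have h := root'_eq_sum b i (pol P ξ)
  simp only [root'_pol] at h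
  have hi := (len_pos P i).ne'
  apply mul_left_cancel₀ hi
  rw [h, Finset.mul_sum]
  exact Finset.sum_congr rfl fun j _ => by field_simp

theorem coroot'_nonneg {ξ : M} (hξ : ∀ j ∈ b.support, 0 ≤ P.coroot' j ξ) {i : ι} (hi : b.IsPos i) :
    0 ≤ P.coroot' i ξ := by
  rw [coroot'_eq_sum b]
  exact Finset.sum_nonneg fun j hj => mul_nonneg (mul_nonneg (by exact_mod_cast cf_nonneg b hi j)
    (div_nonneg (len_pos P j).le (len_pos P i).le)) (hξ j hj)

theorem coroot'_eq_zero_iff {ξ : M} (hξ : ∀ j ∈ b.support, 0 ≤ P.coroot' j ξ) {i : ι}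
    (hi : b.IsPos i) :
    P.coroot' i ξ = 0 ↔ ∀ j ∈ b.support, 0 < P.coroot' j ξ → cf b i j = 0 := by
  rw [coroot'_eq_sum b, Finset.sum_eq_zero_iff_of_nonneg fun j hj =>
    mul_nonneg (mul_nonneg (by exact_mod_cast cf_nonneg b hi j)
      (div_nonneg (len_pos P j).le (len_pos P i).le)) (hξ j hj)]
  refine forall₂_congr fun j hj => ?_
  have := (hξ j hj).lt_or_eq
  rcases this with h | h
  · simp only [mul_eq_zero, div_eq_zero_iff, Int.cast_eq_zero, (len_pos P j).ne', (len_pos P i).ne',
      h.ne', h, or_false, forall_const]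
  · simp only [← h, mul_zero, lt_self_iff_false, false_imp_iff]

theorem coroot'_pos {ξ : M} (hξ : ∀ j ∈ b.support, 0 < P.coroot' j ξ) {i : ι} (hi : b.IsPos i) :
    0 < P.coroot' i ξ := by
  refine (coroot'_nonneg b (fun j hj => (hξ j hj).le) hi).lt_of_ne fun h => ?_
  have h' := (coroot'_eq_zero_iff b (fun j hj => (hξ j hj).le) hi).mp h.symm
  rw [RootPairing.Base.isPos_iff, cf_height,
    Finset.sum_eq_zero fun j hj => h' j hj (hξ j hj)] at hi
  exact lt_irrefl _ hi

/-- The weight dual to the simple coroots. -/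
theorem exists_sum_fundWeight (ξ : M) :
    ξ = ∑ j : b.support, P.coroot' j ξ • RootCh.fundWeight b j := by
  classical
  set η := ξ - ∑ j : b.support, P.coroot' j ξ • RootCh.fundWeight b j with hη
  suffices η = 0 by exact sub_eq_zero.mp this
  have h0 : ∀ j : b.support, P.coroot' j η = 0 := by
    intro j
    rw [hη, map_sub, map_sum, Finset.sum_eq_single j, map_smul,
      RootCh.coroot'_fundWeight_self, smul_eq_mul, mul_one, sub_self]
    · intro k _ hk
      rw [map_smul, RootCh.coroot'_fundWeight_of_ne b k j (Ne.symm hk), smul_zero]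
    · simp
  apply P.toPerfPair.injective
  rw [map_zero]
  apply b.toCoweightBasis.ext
  intro j
  rw [RootPairing.Base.toCoweightBasis_apply]
  exact h0 j

end Groth.Agent.RootCh
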