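import Groth.Agent.RootCh.Chamber

/-! Facets of a root system: adjacent chambers, corners, coordinates, parabolic sets. -/

set_option autoImplicit false

noncomputable section

namespace Groth.Agent.RootCh

open RootPairing Module Set _root_.RootCh

variable {ι R M N : Type*} [Field R] [LinearOrder R] [IsStrictOrderedRing R]
  [AddCommGroup M] [Module R M] [AddCommGroup N] [Module R N] [Finite ι]
  {P : RootPairing ι R M N}

section signs

variable {F : Facet P} {ξ : M}

omit [IsStrictOrderedRing R] [Finite ι] in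
theorem sgn_eq (hξ : ξ ∈ F.carrier) (i : ι) : F.sgn i = SignType.sign (P.coroot' i ξ) :=
  (congrFun hξ i).symm

omit [IsStrictOrderedRing R] [Finite ι] in
theorem carrier_nonempty (F : Facet P) : F.carrier.Nonempty := F.exists_sgnVec_eq

omit [IsStrictOrderedRing R] [Finite ι] in
theorem sgn_zero_iff (hξ : ξ ∈ F.carrier) (i : ι) : F.sgn i = 0 ↔ P.coroot' i ξ = 0 := by
  rw [sgn_eq hξ, sign_eq_zero_iff]

omit [IsStrictOrderedRing R] [Finite ι] in
theorem sgn_one_iff (hξ : ξ ∈ F.carrier) (i : ι) : F.sgn i = 1 ↔ 0 < P.coroot' i ξ := by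
  rw [sgn_eq hξ, sign_eq_one_iff]

omit [IsStrictOrderedRing R] [Finite ι] in
theorem sgn_negOne_iff (hξ : ξ ∈ F.carrier) (i : ι) : F.sgn i = -1 ↔ P.coroot' i ξ < 0 := by
  rw [sgn_eq hξ, sign_eq_neg_one_iff]

omit [IsStrictOrderedRing R] [Finite ι] in
theorem parab_iff (hξ : ξ ∈ F.carrier) (i : ι) : i ∈ F.parab ↔ 0 ≤ P.coroot' i ξ := by
  show F.sgn i ≠ -1 ↔ _
  rw [Ne, sgn_negOne_iff hξ, not_lt]

theorem sgn_opp (F : Facet P) (i : ι) : F.sgn (P.reflectionPerm i i) = -F.sgn i := by
  obtain ⟨ξ, hξ⟩ := carrier_nonempty F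
  rw [sgn_eq hξ, sgn_eq hξ, coroot'_opp, Left.sign_neg]

theorem opp_mem_parab (F : Facet P) (i : ι) : i ∈ F.parab ∨ P.reflectionPerm i i ∈ F.parab := by
  show F.sgn i ≠ -1 ∨ F.sgn _ ≠ -1
  rw [sgn_opp]
  generalize F.sgn i = s
  revert s; decide

theorem le_iff_parab (F G : Facet P) : F ≤ G ↔ F.parab ⊆ G.parab := by
  constructor
  · intro h i hi
    rcases h i with h' | h' <;> simp only [Facet.parab, Set.mem_ofPred_eq, h'] at hi ⊢
    · decide
    · exact hi
  · intro h i
    have h1 : F.sgn i ≠ -1 → G.sgn i ≠ -1 := @h i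
    have h2 : F.sgn (P.reflectionPerm i i) ≠ -1 → G.sgn (P.reflectionPerm i i) ≠ -1 := @h _
    rw [sgn_opp, sgn_opp] at h2
    revert h1 h2
    generalize F.sgn i = s
    generalize G.sgn i = t
    revert s t; decide

end signs

variable [P.IsRootSystem] [P.IsCrystallographic] [P.IsReduced]

omit [P.IsCrystallographic] [P.IsReduced] in
theorem sgnVec_eq_of (b : P.Base) {ξ η : M} (hξ : ∀ j ∈ b.support, 0 ≤ P.coroot' j ξ)
    (hη : ∀ j ∈ b.support, 0 ≤ P.coroot' j η)
    (h0 : ∀ j ∈ b.support, P.coroot' j ξ = 0 ↔ P.coroot' j η = 0) :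
    sgnVec P ξ = sgnVec P η := by
  have key : ∀ i, b.IsPos i → SignType.sign (P.coroot' i ξ) = SignType.sign (P.coroot' i η) := by
    intro i hi
    have hz : P.coroot' i ξ = 0 ↔ P.coroot' i η = 0 := by
      rw [coroot'_eq_zero_iff b hξ hi, coroot'_eq_zero_iff b hη hi]
      refine forall₂_congr fun j hj => ?_
      rw [(hξ j hj).lt_iff_ne', (hη j hj).lt_iff_ne', Ne, Ne, h0 j hj]
    rcases (coroot'_nonneg b hξ hi).lt_or_eq with h | h
    · have h' : 0 < P.coroot' i η :=
        (coroot'_nonneg b hη hi).lt_of_ne fun e => h.ne' (hz.mpr e.symm)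
      rw [sign_pos h, sign_pos h']
    · rw [← h, hz.mp h.symm]
  funext i
  show SignType.sign _ = SignType.sign _
  by_cases hi : b.IsPos i
  · exact key i hi
  · have := key _ ((isPos_opp b i).mpr hi)
    rwa [coroot'_opp, coroot'_opp, Left.sign_neg, Left.sign_neg, neg_inj] at this

omit [P.IsRootSystem] [P.IsCrystallographic] [P.IsReduced] [Finite ι] in
theorem mem_cham_of_mem {F : Facet P} {b : P.Base} {ξ : M} (hξ : ξ ∈ F.carrier)
    (hd : ξ ∈ closedChamber b) : b ∈ F.cham := by
  intro η hη j hj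
  rcases (hd j hj).lt_or_eq with h | h
  · exact ((sgn_one_iff hη j).mp ((sgn_one_iff hξ j).mpr h)).le
  · exact ((sgn_zero_iff hη j).mp ((sgn_zero_iff hξ j).mpr h.symm)).ge

theorem cham_nonempty (F : Facet P) : F.cham.Nonempty := by
  classical
  haveI := Fintype.ofFinite ι
  obtain ⟨ξ, hξ⟩ := carrier_nonempty F
  obtain ⟨b₀⟩ := P.nonempty_base
  have hreg : ∀ i, P.coroot' i (rho b₀) ≠ 0 := fun i => by
    by_cases h : b₀.IsPos i
    · exact (coroot'_pos b₀ (rho_pos b₀) h).ne'
    · exact (coroot'_neg_of_not_isPos b₀ (rho_pos b₀) h).ne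
  set a : ι → R := fun i => P.coroot' i (rho b₀)
  set c : ι → R := fun i => P.coroot' i ξ
  set q : ι → R := fun i => if c i = 0 then 0 else |a i| / |c i|
  have hq : ∀ i, 0 ≤ q i := fun i => by
    simp only [q]; split
    · exact le_rfl
    · positivity
  set ε : R := (1 + ∑ i, q i)⁻¹
  have hpos : 0 < 1 + ∑ i, q i := by
    have := Finset.sum_nonneg fun i (_ : i ∈ Finset.univ) => hq i
    linarith
  have hε : 0 < ε := inv_pos.mpr hpos
  have hne : ∀ i, c i ≠ 0 → |ε * a i| < |c i| := by
    intro i hi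
    have h1 : |a i| / |c i| < 1 + ∑ k, q k := by
      have := Finset.single_le_sum (fun k _ => hq k) (Finset.mem_univ i)
      simp only [q, if_neg hi] at this ⊢
      linarith
    rw [div_lt_iff₀ (abs_pos.mpr hi)] at h1
    rw [abs_mul, abs_of_pos hε, inv_mul_eq_div, div_lt_iff₀ hpos]
    linarith
  have hval : ∀ i, P.coroot' i (ξ + ε • rho b₀) = c i + ε * a i := fun i => by
    rw [map_add, map_smul, smul_eq_mul]
  obtain ⟨b, hb⟩ := exists_base (ξ + ε • rho b₀) fun i => by
    rw [hval]
    rcases eq_or_ne (c i) 0 with h | h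
    · rw [h, zero_add]; exact mul_ne_zero hε.ne' (hreg i)
    · intro h0
      have := hne i h
      rw [eq_neg_of_add_eq_zero_left h0, abs_neg] at this
      exact lt_irrefl _ this
  refine ⟨b, mem_cham_of_mem hξ fun j hj => ?_⟩
  by_contra hlt
  have hlt' : c j < 0 := not_le.mp hlt
  have h1 := hb j hj
  rw [hval] at h1
  have h2 := hne j hlt'.ne
  rw [abs_of_neg hlt'] at h2
  have := le_abs_self (ε * a j)
  linarith

variable {F : Facet P} {b : P.Base}

omit [P.IsRootSystem] [P.IsCrystallographic] [P.IsReduced] [Finite ι] in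
theorem sgn_simple (hb : b ∈ F.cham) {j : ι} (hj : j ∈ b.support) :
    F.sgn j = 0 ∨ F.sgn j = 1 := by
  obtain ⟨ξ, hξ⟩ := carrier_nonempty F
  rcases (hb hξ j hj).lt_or_eq with h | h
  · exact Or.inr ((sgn_one_iff hξ j).mpr h)
  · exact Or.inl ((sgn_zero_iff hξ j).mpr h.symm)

omit [P.IsCrystallographic] [P.IsReduced] in
theorem isPos_mem_parab (hb : b ∈ F.cham) {i : ι} (hi : b.IsPos i) : i ∈ F.parab := by
  obtain ⟨ξ, hξ⟩ := carrier_nonempty F
  exact (parab_iff hξ i).mpr (coroot'_nonneg b (hb hξ) hi)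

omit [P.IsCrystallographic] [P.IsReduced] in
theorem mem_carrier_iff (hb : b ∈ F.cham) (η : M) :
    η ∈ F.carrier ↔ ∀ j ∈ b.support,
      (F.sgn j = 0 → P.coroot' j η = 0) ∧ (F.sgn j ≠ 0 → 0 < P.coroot' j η) := by
  constructor
  · intro hη j hj
    refine ⟨(sgn_zero_iff hη j).mp, fun h => ?_⟩
    exact (sgn_one_iff hη j).mp ((sgn_simple hb hj).resolve_left h)
  · intro h
    obtain ⟨ξ, hξ⟩ := carrier_nonempty F
    show sgnVec P η = F.sgn
    have hη : ∀ j ∈ b.support, 0 ≤ P.coroot' j η := fun j hj => by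
      by_cases h0 : F.sgn j = 0
      · exact ((h j hj).1 h0).ge
      · exact ((h j hj).2 h0).le
    rw [sgnVec_eq_of b hη (hb hξ) fun j hj => ?_]
    · exact hξ
    · rw [← sgn_zero_iff hξ]
      exact ⟨fun h0 => by_contra fun hne => ((h j hj).2 hne).ne' h0, (h j hj).1⟩

omit [P.IsCrystallographic] [P.IsReduced] in
theorem mem_closure_iff (hb : b ∈ F.cham) (η : M) :
    η ∈ F.closure ↔ ∀ j ∈ b.support,
      (F.sgn j = 0 → P.coroot' j η = 0) ∧ 0 ≤ P.coroot' j η := by
  constructor
  · intro hη j hj
    have h2 : SignType.sign (P.coroot' j η) = 0 ∨ SignType.sign (P.coroot' j η) = F.sgn j := hη j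
    refine ⟨fun h0 => ?_, ?_⟩
    · rw [h0, or_self, sign_eq_zero_iff] at h2
      exact h2
    · rcases h2 with h | h
      · exact (sign_eq_zero_iff.mp h).ge
      · rcases sgn_simple hb hj with h' | h' <;> rw [h'] at h
        · exact (sign_eq_zero_iff.mp h).ge
        · exact (sign_eq_one_iff.mp h).le
  · intro h
    obtain ⟨ξ, hξ⟩ := carrier_nonempty F
    have key : ∀ i, b.IsPos i →
        SignType.sign (P.coroot' i η) = 0 ∨ SignType.sign (P.coroot' i η) = F.sgn i := by
      intro i hi
      rcases (coroot'_nonneg b (fun j hj => (h j hj).2) hi).lt_or_eq with h1 | h1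
      · right
        rw [sign_pos h1, eq_comm, sgn_one_iff hξ]
        refine (coroot'_nonneg b (hb hξ) hi).lt_of_ne fun e => h1.ne' ?_
        rw [coroot'_eq_zero_iff b (fun j hj => (h j hj).2) hi]
        intro j hj hjp
        refine (coroot'_eq_zero_iff b (hb hξ) hi).mp e.symm j hj ?_
        exact (hb hξ j hj).lt_of_ne fun e' =>
          hjp.ne' ((h j hj).1 ((sgn_zero_iff hξ j).mpr e'.symm))
      · left; rw [← h1, sign_zero]
    intro i
    by_cases hi : b.IsPos i
    · exact key i hi
    · have := key _ ((isPos_opp b i).mpr hi)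
      rw [coroot'_opp, Left.sign_neg, sgn_opp] at this
      show SignType.sign _ = 0 ∨ SignType.sign _ = _
      revert this
      generalize SignType.sign (P.coroot' i η) = s
      generalize F.sgn i = t
      revert s t; decide

variable (F b) in
/-- The simple indices of `b` not vanishing on `F`. -/
def supp : Finset b.support :=
  haveI : DecidableEq SignType := inferInstance
  Finset.univ.filter fun j : b.support => F.sgn j ≠ 0

omit [IsStrictOrderedRing R] [Finite ι] [P.IsRootSystem] [P.IsCrystallographic] [P.IsReduced] in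
theorem mem_supp (j : b.support) : j ∈ supp F b ↔ F.sgn j ≠ 0 := by simp [supp]

omit [IsStrictOrderedRing R] [Finite ι] [LinearOrder R] [P.IsCrystallographic] [P.IsReduced] in
theorem coroot'_sum_finset (b : P.Base) (T : Finset b.support) (c : b.support → R) (j : b.support)
    [DecidableEq b.support] :
    P.coroot' j (∑ k ∈ T, c k • fundWeight b k) = if j ∈ T then c j else 0 := by
  rw [map_sum, ← Finset.sum_ite_eq T j c]
  refine Finset.sum_congr rfl fun k _ => ?_
  rcases eq_or_ne j k with rfl | h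
  · rw [if_pos rfl, map_smul, coroot'_fundWeight_self, smul_eq_mul, mul_one]
  · rw [if_neg h, map_smul, coroot'_fundWeight_of_ne b k j h, smul_zero]

omit [IsStrictOrderedRing R] [Finite ι] [LinearOrder R] [P.IsCrystallographic] [P.IsReduced] in
theorem coroot'_finset_sum (b : P.Base) (T : Finset b.support) (j : b.support)
    [DecidableEq b.support] :
    P.coroot' j (∑ k ∈ T, fundWeight b k) = if j ∈ T then 1 else 0 := by
  simpa using coroot'_sum_finset b T (fun _ => 1) j

omit [P.IsCrystallographic] [P.IsReduced] in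
theorem sum_supp_mem_carrier (hb : b ∈ F.cham) (c : b.support → R)
    (hc : ∀ j : b.support, F.sgn j ≠ 0 → 0 < c j) :
    ∑ k ∈ supp F b, c k • fundWeight b k ∈ F.carrier := by
  classical
  rw [mem_carrier_iff hb]
  intro j hj
  have := coroot'_sum_finset b (supp F b) c ⟨j, hj⟩
  simp only at this
  rw [this]
  constructor
  · intro h
    rw [if_neg fun hm => (mem_supp _).mp hm h]
  · intro h
    rw [if_pos ((mem_supp ⟨j, hj⟩).mpr h)]
    exact hc _ h

omit [P.IsCrystallographic] [P.IsReduced] in
theorem eq_sum_supp (hb : b ∈ F.cham) {η : M} (hη : η ∈ F.carrier) :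
    η = ∑ k ∈ supp F b, P.coroot' k η • fundWeight b k := by
  classical
  conv_lhs => rw [exists_sum_fundWeight b η]
  refine (Finset.sum_subset (Finset.subset_univ _) fun k _ hk => ?_).symm
  rw [((mem_carrier_iff hb η).mp hη k k.2).1 (not_not.mp fun h => hk ((mem_supp k).mpr h)),
    zero_smul]

theorem corners_eq (hb : b ∈ F.cham) : F.corners = fundWeight b '' {j | F.sgn j ≠ 0} := by
  refine Set.Subset.antisymm ?_ ?_
  · rintro m ⟨hm, hcl⟩
    have hd : m ∈ baseCorners b := ⟨hm, fun j hj => ((mem_closure_iff hb m).mp hcl j hj).2⟩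
    rw [baseCorners_eq] at hd
    obtain ⟨j, rfl⟩ := hd
    refine ⟨j, fun h0 => ?_, rfl⟩
    have := ((mem_closure_iff hb _).mp hcl j j.2).1 h0
    rw [coroot'_fundWeight_self] at this
    exact one_ne_zero this
  · rintro _ ⟨j, hj, rfl⟩
    refine ⟨⟨b, j, rfl⟩, (mem_closure_iff hb _).mpr fun k hk =>
      ⟨fun h0 => ?_, fundWeight_mem_closedChamber b j k hk⟩⟩
    exact coroot'_fundWeight_of_ne b j ⟨k, hk⟩ fun e => hj (e ▸ h0)

theorem corners_eq' (hb : b ∈ F.cham) : F.corners = fundWeight b '' (supp F b : Set b.support) := by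
  rw [corners_eq hb]
  congr 1
  ext j
  simp [mem_supp]

theorem corners_subset_baseCorners (hb : b ∈ F.cham) : F.corners ⊆ baseCorners b := by
  rw [corners_eq hb, baseCorners_eq]
  exact Set.image_subset_range _ _

theorem corners_finite (F : Facet P) : F.corners.Finite := by
  obtain ⟨b, hb⟩ := cham_nonempty F
  rw [corners_eq hb]
  exact Set.toFinite _

/-- The facet spanned by a set of simple indices of `b`. -/
def facetOf (b : P.Base) (T : Finset b.support) : Facet P :=
  Facet.ofVec P (∑ k ∈ T, fundWeight b k)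

omit [P.IsCrystallographic] [P.IsReduced] [Finite ι] in
theorem sum_mem_facetOf (b : P.Base) (T : Finset b.support) :
    ∑ k ∈ T, fundWeight b k ∈ (facetOf b T).carrier := rfl

omit [P.IsCrystallographic] [P.IsReduced] [Finite ι] in
theorem mem_cham_facetOf (b : P.Base) (T : Finset b.support) : b ∈ (facetOf b T).cham := by
  classical
  refine mem_cham_of_mem (sum_mem_facetOf b T) fun j hj => ?_
  have := coroot'_finset_sum b T ⟨j, hj⟩
  simp only at this
  rw [this]
  split
  · exact zero_le_one
  · exact le_rfl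

omit [P.IsCrystallographic] [P.IsReduced] [Finite ι] in
theorem sgn_facetOf (b : P.Base) (T : Finset b.support) (j : b.support) :
    (facetOf b T).sgn j ≠ 0 ↔ j ∈ T := by
  classical
  rw [Ne, sgn_zero_iff (sum_mem_facetOf b T), coroot'_finset_sum]
  by_cases h : j ∈ T <;> simp [h]

theorem corners_facetOf (b : P.Base) (T : Finset b.support) :
    (facetOf b T).corners = fundWeight b '' (T : Set b.support) := by
  rw [corners_eq (mem_cham_facetOf b T)]
  congr 1
  ext j
  simp [sgn_facetOf]

omit [P.IsCrystallographic] [P.IsReduced] [Finite ι] in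
theorem le_of_mem_closure {G : Facet P} {ξ : M} (hξ : ξ ∈ G.carrier) (hcl : ξ ∈ F.closure) :
    F ≤ G := by
  intro i
  have := hcl i
  rwa [show sgnVec P ξ = G.sgn from hξ] at this

omit [IsStrictOrderedRing R] [P.IsRootSystem] [P.IsCrystallographic] [P.IsReduced] [Finite ι] in
theorem closure_mono {G : Facet P} (h : F ≤ G) : G.closure ⊆ F.closure := by
  intro η hη i
  rcases hη i with h1 | h1
  · exact Or.inl h1
  · rcases h i with h2 | h2
    · exact Or.inl (h1.trans h2)
    · exact Or.inr (h1.trans h2)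

/-- The sum of the corners of a facet, a point of the facet. -/
theorem sum_corners_mem_carrier (hb : b ∈ F.cham) :
    ∑ k ∈ supp F b, fundWeight b k ∈ F.carrier := by
  simpa using sum_supp_mem_carrier hb (fun _ => 1) fun _ _ => one_pos

theorem cham_of_corners_subset {G : Facet P} (hGF : G.corners ⊆ F.corners) (hb : b ∈ F.cham) :
    b ∈ G.cham := by
  obtain ⟨c, hc⟩ := cham_nonempty G
  refine mem_cham_of_mem (sum_corners_mem_carrier hc) fun j hj => ?_
  rw [map_sum]
  refine Finset.sum_nonneg fun k hk => ?_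
  have : fundWeight c k ∈ G.corners := by
    rw [corners_eq' hc]; exact ⟨k, hk, rfl⟩
  exact (corners_subset_baseCorners hb (hGF this)).2 j hj

theorem le_iff_corners {G : Facet P} : F ≤ G ↔ G.corners ⊆ F.corners := by
  refine ⟨fun h => Set.inter_subset_inter_right _ (closure_mono h), fun h => ?_⟩
  obtain ⟨b, hb⟩ := cham_nonempty F
  have hbG := cham_of_corners_subset h hb
  refine le_of_mem_closure (sum_corners_mem_carrier hbG) ((mem_closure_iff hb _).mpr fun j hj => ?_)
  classical
  have := coroot'_finset_sum b (supp G b) ⟨j, hj⟩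
  simp only at this
  rw [this]
  by_cases hm : (⟨j, hj⟩ : b.support) ∈ supp G b
  · rw [if_pos hm]
    refine ⟨fun h0 => ?_, zero_le_one⟩
    rw [corners_eq' hbG, corners_eq hb] at h
    obtain ⟨k, hk, e⟩ := h ⟨_, hm, rfl⟩
    rw [fundWeight_injective b e] at hk
    exact absurd h0 hk
  · rw [if_neg hm]
    exact ⟨fun _ => rfl, le_rfl⟩

theorem eq_of_corners_eq {G : Facet P} (h : F.corners = G.corners) : F = G :=
  le_antisymm (le_iff_corners.mpr h.ge) (le_iff_corners.mpr h.le)

theorem cham_mono {G : Facet P} (h : F ≤ G) : F.cham ⊆ G.cham := fun _ hb =>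
  cham_of_corners_subset (le_iff_corners.mp h) hb

omit [IsStrictOrderedRing R] [LinearOrder R] [Finite ι] [P.IsCrystallographic] [P.IsReduced] in
theorem linearIndependent_fundWeight (b : P.Base) : LinearIndependent R (fundWeight b) := by
  classical
  rw [Fintype.linearIndependent_iff]
  intro g hg j
  have := coroot'_sum_fundWeight b g j
  rw [hg, map_zero] at this
  exact this.symm

theorem span_carrier (F : Facet P) :
    Submodule.span R F.carrier = Submodule.span R F.corners := by
  obtain ⟨b, hb⟩ := cham_nonempty F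
  refine le_antisymm (Submodule.span_le.mpr fun η hη => ?_) (Submodule.span_le.mpr ?_)
  · rw [SetLike.mem_coe, eq_sum_supp hb hη, corners_eq' hb]
    exact Submodule.sum_mem _ fun k hk =>
      Submodule.smul_mem _ _ (Submodule.subset_span ⟨k, hk, rfl⟩)
  · rw [corners_eq' hb]
    rintro _ ⟨j, hj, rfl⟩
    classical
    have h1 := sum_corners_mem_carrier hb
    have h2 := sum_supp_mem_carrier hb (fun k => if k = j then 2 else 1) fun k _ => by
      split
      · exact two_pos
      · exact one_pos
    have he : fundWeight b j = (∑ k ∈ supp F b, (if k = j then (2 : R) else 1) • fundWeight b k)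
        - ∑ k ∈ supp F b, fundWeight b k := by
      rw [← Finset.sum_sub_distrib, Finset.sum_eq_single_of_mem j hj]
      · rw [if_pos rfl, two_smul, add_sub_cancel_right]
      · intro k _ hk; rw [if_neg hk, one_smul, sub_self]
    rw [SetLike.mem_coe, he]
    exact Submodule.sub_mem _ (Submodule.subset_span h2) (Submodule.subset_span h1)

/-! ### Fundamental coweights and `Corr` -/

omit [IsStrictOrderedRing R] [LinearOrder R] [Finite ι] [P.IsCrystallographic] [P.IsReduced] in
theorem exists_sum_fundCoweight (b : P.Base) [Finite ι] [LinearOrder R] [IsStrictOrderedRing R]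
    (y : N) : y = ∑ j : b.support, P.root' j y • fundCoweight b j :=
  exists_sum_fundWeight (P := P.flip) b.flip y

omit [P.IsCrystallographic] [P.IsReduced] in
theorem root'_ext (b : P.Base) {y z : N} (h : ∀ j ∈ b.support, P.root' j y = P.root' j z) :
    y = z := by
  rw [exists_sum_fundCoweight b y, exists_sum_fundCoweight b z]
  exact Finset.sum_congr rfl fun j _ => by rw [h j j.2]

omit [P.IsCrystallographic] [P.IsReduced] in
theorem fundCoweight_eq (b : P.Base) (j : b.support) :
    fundCoweight b j = (len P j)⁻¹ • pol P (fundWeight b j) := by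
  refine root'_ext b fun k hk => ?_
  rw [map_smul, root'_pol, smul_eq_mul]
  rcases eq_or_ne (⟨k, hk⟩ : b.support) j with rfl | h
  · rw [coroot'_fundWeight_self b ⟨k, hk⟩, mul_one, inv_mul_cancel₀ (len_pos P _).ne']
    exact root'_fundCoweight_self b ⟨k, hk⟩
  · have h1 := coroot'_fundWeight_of_ne b j ⟨k, hk⟩ h
    have h2 := root'_fundCoweight_of_ne b j ⟨k, hk⟩ h
    simp only at h1 h2
    rw [h1, h2, mul_zero, mul_zero]

omit [P.IsCrystallographic] [P.IsReduced] in
theorem root'_fundCoweight (b : P.Base) (j : b.support) (i : ι) :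
    P.root' i (fundCoweight b j) = (cf b i j : R) := by
  classical
  rw [root'_eq_sum b, Finset.sum_eq_single_of_mem (j : ι) j.2]
  · rw [root'_fundCoweight_self, mul_one]
  · intro k hk hne
    have h := root'_fundCoweight_of_ne b j ⟨k, hk⟩ fun e => hne (congrArg Subtype.val e)
    simp only at h
    rw [h, mul_zero]

omit [P.IsCrystallographic] [P.IsReduced] in
theorem corr_pos {w : M} {x : N} (h : Corr P w x) : ∃ c : R, 0 < c ∧ x = c • pol P w := by
  obtain ⟨b, j, rfl, rfl⟩ := h
  exact ⟨_, inv_pos.mpr (len_pos P j), fundCoweight_eq b j⟩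

omit [P.IsCrystallographic] [P.IsReduced] in
theorem corr_unique {w : M} {x x' : N} (h : Corr P w x) (h' : Corr P w x') : x = x' := by
  obtain ⟨b, j, rfl, rfl⟩ := h
  obtain ⟨b', j', e, rfl⟩ := h'
  have hx := fundCoweight_eq b j
  have hx' := fundCoweight_eq b' j'
  rw [e] at hx'
  have h1 := root'_fundCoweight_self b j
  have h2 := root'_fundCoweight_self b' j'
  have h3 := root'_fundCoweight b' j' j
  have h4 := root'_fundCoweight b j j'
  rw [hx, map_smul, smul_eq_mul] at h1 h4
  rw [hx', map_smul, smul_eq_mul] at h2 h3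
  set A := P.root' j (pol P (fundWeight b j))
  set B := P.root' j' (pol P (fundWeight b j))
  have la := inv_pos.mpr (len_pos P j)
  have lb := inv_pos.mpr (len_pos P j')
  set a := (len P j)⁻¹
  set a' := (len P j')⁻¹
  have hnm : (cf b' j j' : R) * (cf b j' j : R) = 1 := by
    rw [← h3, ← h4]
    linear_combination (a' * B) * h1 + h2
  have hn0 : (0 : R) < cf b' j j' := by
    rw [← h3]
    refine mul_pos lb ?_
    exact pos_of_mul_pos_right (h1 ▸ one_pos) la.le
  have hn1 : cf b' j j' = 1 :=
    Int.eq_one_of_mul_eq_one_right (by exact_mod_cast hn0.le) (by exact_mod_cast hnm)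
  rw [hn1, Int.cast_one] at h3
  have : a = a' := by
    have hA : A ≠ 0 := fun h0 => by simp [h0] at h1
    exact mul_right_cancel₀ hA (h1.trans h3.symm)
  rw [hx, hx', this]

omit [P.IsCrystallographic] [P.IsReduced] in
theorem cosgn_smul_pol {c : R} (hc : 0 < c) (w : M) (i : ι) :
    cosgnVec P (c • pol P w) i = sgnVec P w i := by
  show SignType.sign _ = SignType.sign _
  rw [map_smul, smul_eq_mul, root'_pol, sign_mul, sign_mul, sign_pos hc, sign_pos (len_pos P i),
    one_mul, one_mul]

omit [P.IsCrystallographic] [P.IsReduced] in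
theorem cosgn_pol (w : M) : cosgnVec P (pol P w) = sgnVec P w := by
  funext i
  simpa using cosgn_smul_pol (one_pos (α := R)) w i

omit [P.IsCrystallographic] [P.IsReduced] in
theorem dualCarrier_eq (F : Facet P) : F.dualCarrier = pol P '' F.carrier := by
  ext y
  obtain ⟨u, rfl⟩ := (pol P).surjective y
  simp [Facet.dualCarrier, Facet.carrier, cosgn_pol, (pol P).injective.mem_set_image]

theorem span_dualCarrier (F : Facet P) :
    Submodule.span R F.dualCarrier = (Submodule.span R F.corners).map (pol P).toLinearMap := by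
  rw [dualCarrier_eq, ← span_carrier, Submodule.map_span]
  rfl

omit [P.IsCrystallographic] [P.IsReduced] in
theorem dualCorners_eq (F : Facet P) :
    F.dualCorners = {y : N | ∃ m ∈ F.corners, Corr P m y} := by
  ext y
  constructor
  · rintro ⟨⟨b', j, rfl⟩, hcl⟩
    let b : P.Base := b'.flip
    have hc : Corr P (fundWeight b j) (fundWeight (P := P.flip) b' j) := ⟨b, j, rfl, rfl⟩
    refine ⟨_, ⟨⟨b, j, rfl⟩, fun i => ?_⟩, hc⟩
    obtain ⟨c, hc0, hce⟩ := corr_pos hc
    have := hcl i
    rwa [hce, cosgn_smul_pol hc0] at this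
  · rintro ⟨m, ⟨_, hcl⟩, hc⟩
    obtain ⟨b, j, rfl, rfl⟩ := hc
    refine ⟨⟨b.flip, j, rfl⟩, fun i => ?_⟩
    rw [fundCoweight_eq, cosgn_smul_pol (inv_pos.mpr (len_pos P j))]
    exact hcl i

omit [P.IsCrystallographic] [P.IsReduced] in
theorem vert_eq (F : Facet P) :
    F.corners = {m : M | m ∈ fundWeights P ∧
      ∀ y : N, Corr P m y → ∀ i ∈ F.parab, 0 ≤ P.root' i y} := by
  ext m
  have hiff : ∀ y, Corr P m y → ∀ i, (0 ≤ P.root' i y ↔ 0 ≤ SignType.sign (P.coroot' i m)) := by
    intro y hy i
    obtain ⟨c, hc, rfl⟩ := corr_pos hy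
    rw [map_smul, smul_eq_mul, root'_pol, mul_nonneg_iff_of_pos_left hc,
      mul_nonneg_iff_of_pos_left (len_pos P i), sign_nonneg_iff]
  constructor
  · rintro ⟨hm, hcl⟩
    refine ⟨hm, fun y hy i hi => (hiff y hy i).mpr ?_⟩
    have := hcl i
    have hi' : F.sgn i ≠ -1 := hi
    revert this hi'
    show SignType.sign _ = 0 ∨ SignType.sign _ = _ → _
    generalize SignType.sign (P.coroot' i m) = s
    generalize F.sgn i = t
    revert s t; decide
  · rintro ⟨hm, h⟩
    refine ⟨hm, fun i => ?_⟩
    obtain ⟨b, j, rfl⟩ := hm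
    have hy : Corr P (fundWeight b j) (fundCoweight b j) := ⟨b, j, rfl, rfl⟩
    have h1 : F.sgn i ≠ -1 → 0 ≤ SignType.sign (P.coroot' i (fundWeight b j)) := fun hi =>
      (hiff _ hy i).mp (h _ hy i hi)
    have h2 : F.sgn (P.reflectionPerm i i) ≠ -1 →
        0 ≤ SignType.sign (P.coroot' (P.reflectionPerm i i) (fundWeight b j)) := fun hi =>
      (hiff _ hy _).mp (h _ hy _ hi)
    rw [sgn_opp, coroot'_opp, Left.sign_neg] at h2
    show SignType.sign _ = 0 ∨ SignType.sign _ = _
    revert h1 h2
    generalize SignType.sign (P.coroot' i (fundWeight b j)) = s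
    generalize F.sgn i = t
    revert s t; decide

/-! ### Parabolic sets -/

omit [P.IsCrystallographic] [P.IsReduced] in
theorem parab_isParabolic (F : Facet P) : IsParabolicSubset P F.parab := by
  refine ⟨fun i j k hi hj hk => ?_, opp_mem_parab F⟩
  obtain ⟨ξ, hξ⟩ := carrier_nonempty F
  rw [parab_iff hξ] at hi hj ⊢
  have h := congrArg (fun v => ip P v ξ) hk
  simp only [map_add, LinearMap.add_apply, ip_root] at h
  refine nonneg_of_mul_nonneg_right ?_ (len_pos P k)
  rw [h]
  exact add_nonneg (mul_nonneg (len_pos P i).le hi) (mul_nonneg (len_pos P j).le hj)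

theorem exists_facet_parab {S : Set ι} (hS : IsParabolicSubset P S) :
    ∃ F : Facet P, F.parab = S := by
  classical
  haveI := Fintype.ofFinite ι
  obtain ⟨hcl, hcov⟩ := hS
  set f : P.Base → ℕ := fun b => (Finset.univ.filter fun i => i ∈ S ∧ b.IsPos i).card
  obtain ⟨b₀⟩ := P.nonempty_base
  have hbd : (Set.range f).Finite :=
    (Set.finite_Iic (Fintype.card ι)).subset (by rintro _ ⟨b, rfl⟩; exact Finset.card_le_univ _)
  obtain ⟨_, ⟨b, rfl⟩, hmax⟩ :=
    Set.exists_max_image (Set.range f) id hbd ⟨_, b₀, rfl⟩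
  have hsimp : ∀ j ∈ b.support, j ∈ S := by
    intro j hj
    by_contra hjS
    obtain ⟨b', hb'⟩ := exists_neighbour b hj
    have hopp : P.reflectionPerm j j ∈ S := (hcov j).resolve_left hjS
    refine (hmax _ ⟨b', rfl⟩).not_gt ?_
    refine Finset.card_lt_card ⟨fun i hi => ?_, fun hsub => ?_⟩
    · simp only [Finset.mem_filter, Finset.mem_univ, true_and] at hi ⊢
      refine ⟨hi.1, (neighbour_isPos_iff b hj hb' i).mpr (Or.inl ⟨hi.2, ?_⟩)⟩
      rintro rfl; exact hjS hi.1
    · have hm := hsub (Finset.mem_filter.mpr ⟨Finset.mem_univ _, hopp,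
        (neighbour_isPos_iff b hj hb' _).mpr (Or.inr rfl)⟩)
      simp only [Finset.mem_filter, Finset.mem_univ, true_and] at hm
      exact (isPos_opp b j).mp hm.2 (RootPairing.Base.isPos_of_mem_support hj)
  have hpos : ∀ i, b.IsPos i → i ∈ S := fun i hi =>
    hi.induction_on_add hsimp fun i j k hk hi hj => hcl i j k hi (hsimp j hj) hk
  let T : Finset b.support := Finset.univ.filter fun j : b.support => P.reflectionPerm j j ∉ S
  refine ⟨facetOf b T, ?_⟩
  have hξ := sum_mem_facetOf b T
  set ξ := ∑ k ∈ T, fundWeight b k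
  have hdom := mem_cham_facetOf b T hξ
  have key : ∀ p, b.IsPos p → (P.coroot' p ξ = 0 ↔ P.reflectionPerm p p ∈ S) := by
    intro p hp
    refine (hp.induction_on_add (p := fun p => b.IsPos p ∧
      (P.coroot' p ξ = 0 ↔ P.reflectionPerm p p ∈ S)) ?_ ?_).2
    · intro j hj
      refine ⟨RootPairing.Base.isPos_of_mem_support hj, ?_⟩
      have h := coroot'_finset_sum b T ⟨j, hj⟩
      simp only at h
      rw [h]
      by_cases hjS : P.reflectionPerm j j ∈ S <;> simp [T, hjS]
    · rintro q j k hk ⟨hq, ihq⟩ hj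
      have hjp := RootPairing.Base.isPos_of_mem_support hj
      have hkp := hq.add hjp hk
      refine ⟨hkp, ?_⟩
      have h := congrArg (fun v => ip P v ξ) hk
      simp only [map_add, LinearMap.add_apply, ip_root] at h
      have a1 := mul_nonneg (len_pos P q).le (coroot'_nonneg b hdom hq)
      have a2 := mul_nonneg (len_pos P j).le (coroot'_nonneg b hdom hjp)
      have hz : P.coroot' k ξ = 0 ↔ P.coroot' q ξ = 0 ∧ P.coroot' j ξ = 0 := by
        constructor
        · intro h0
          rw [h0, mul_zero] at h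
          obtain ⟨e1, e2⟩ := (add_eq_zero_iff_of_nonneg a1 a2).mp h.symm
          exact ⟨(mul_eq_zero.mp e1).resolve_left (len_pos P q).ne',
            (mul_eq_zero.mp e2).resolve_left (len_pos P j).ne'⟩
        · rintro ⟨e1, e2⟩
          rw [e1, e2, mul_zero, mul_zero, add_zero] at h
          exact (mul_eq_zero.mp h).resolve_left (len_pos P k).ne'
      have hjj : P.coroot' j ξ = 0 ↔ P.reflectionPerm j j ∈ S := by
        have h := coroot'_finset_sum b T ⟨j, hj⟩
        simp only at h
        rw [h]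
        by_cases hjS : P.reflectionPerm j j ∈ S <;> simp [T, hjS]
      rw [hz, ihq, hjj]
      refine ⟨fun ⟨u, v⟩ => hcl _ _ _ u v (by rw [root_opp, root_opp, root_opp, hk]; abel),
        fun u => ⟨hcl _ _ _ u (hpos _ hjp) (by rw [root_opp, root_opp, hk]; abel),
          hcl _ _ _ u (hpos _ hq) (by rw [root_opp, root_opp, hk]; abel)⟩⟩
  ext i
  rw [parab_iff hξ]
  by_cases hi : b.IsPos i
  · exact iff_of_true (coroot'_nonneg b hdom hi) (hpos i hi)
  · have hp := (isPos_opp b i).mpr hi
    have h := key _ hp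
    rw [opp_opp, coroot'_opp, neg_eq_zero] at h
    rw [← h]
    have hle := coroot'_nonneg b hdom hp
    rw [coroot'_opp] at hle
    exact ⟨fun h0 => le_antisymm (by linarith) h0, fun h0 => h0.ge⟩

omit [P.IsCrystallographic] [P.IsReduced] in
theorem eq_of_parab_eq {G : Facet P} (h : F.parab = G.parab) : F = G :=
  le_antisymm ((le_iff_parab _ _).mpr h.le) ((le_iff_parab _ _).mpr h.ge)

omit [P.IsReduced] in
theorem sum_invariant_mem_span [P.IsReduced] (hb : b ∈ F.cham) (S : Finset ι)
    (hS : ∀ j ∈ b.support, F.sgn j = 0 → ∀ i ∈ S, P.reflectionPerm j i ∈ S) :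
    (∑ i ∈ S, P.root i) ∈ Submodule.span R F.corners := by
  rw [exists_sum_fundWeight b (∑ i ∈ S, P.root i), corners_eq' hb]
  refine Submodule.sum_mem _ fun j _ => ?_
  by_cases h0 : F.sgn j = 0
  · rw [coroot'_sum_invariant S j (hS j j.2 h0), zero_smul]; exact Submodule.zero_mem _
  · exact Submodule.smul_mem _ _ (Submodule.subset_span ⟨j, (mem_supp j).mpr h0, rfl⟩)

theorem parabSum_mem_carrier (F : Facet P) :
    (∑ i ∈ (Set.toFinite F.parab).toFinset, P.root i) ∈ F.carrier := by
  classical
  haveI := Fintype.ofFinite ι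
  obtain ⟨b, hb⟩ := cham_nonempty F
  obtain ⟨ξ, hξ⟩ := carrier_nonempty F
  rw [mem_carrier_iff hb]
  intro j hj
  refine ⟨fun h0 => coroot'_sum_invariant _ j fun i hi => ?_, fun h0 => ?_⟩
  · simp only [Set.Finite.mem_toFinset, parab_iff hξ] at hi ⊢
    rwa [← P.coroot'_reflection, P.reflection_apply,
      show P.coroot' j ξ = 0 from (sgn_zero_iff hξ j).mp h0, zero_smul, sub_zero]
  · have hsplit : (Set.toFinite F.parab).toFinset =
        (Set.toFinite {i | b.IsPos i}).toFinset ∪
          (Finset.univ.filter fun i => ¬ b.IsPos i ∧ F.sgn i = 0) := by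
      ext i
      simp only [Set.Finite.mem_toFinset, Finset.mem_union, Set.mem_ofPred_eq, Finset.mem_filter,
        Finset.mem_univ, true_and]
      by_cases hi : b.IsPos i
      · simp [hi, isPos_mem_parab hb hi]
      · simp only [hi, not_false_eq_true, true_and, false_or]
        have hp := isPos_mem_parab hb ((isPos_opp b i).mpr hi)
        change F.sgn _ ≠ -1 at hp
        show F.sgn i ≠ -1 ↔ _
        rw [sgn_opp] at hp
        revert hp
        generalize F.sgn i = s
        revert s; decide
    rw [hsplit, Finset.sum_union, map_add, coroot'_posSum b hj]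
    · refine lt_of_lt_of_le two_pos (le_add_of_nonneg_right ?_)
      rw [map_sum]
      refine Finset.sum_nonneg fun i hi => ?_
      simp only [Finset.mem_filter, Finset.mem_univ, true_and] at hi
      rw [P.root_coroot'_eq_pairing]
      show 0 ≤ P.pairing i j
      have he : P.pairing i j = ∑ k ∈ b.support, (cf b i k : R) * P.pairing k j :=
        root'_eq_sum b i (P.coroot j)
      rw [he]
      refine Finset.sum_nonneg fun k hk => ?_
      rcases eq_or_ne (cf b i k) 0 with h1 | h1
      · simp [h1]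
      refine mul_nonneg_of_nonpos_of_nonpos (by exact_mod_cast cf_nonpos b hi.1 k) ?_
      have hkj : k ≠ j := by
        rintro rfl
        apply h0
        have hp := (isPos_opp b i).mpr hi.1
        have hz : P.coroot' (P.reflectionPerm i i) ξ = 0 := by
          rw [coroot'_opp, (sgn_zero_iff hξ i).mp hi.2, neg_zero]
        rw [sgn_zero_iff hξ]
        by_contra hne
        have h2 := (coroot'_eq_zero_iff b (hb hξ) hp).mp hz k hk
          ((hb hξ k hk).lt_of_ne' hne)
        have he : cf b (P.reflectionPerm i i) k = -cf b i k := by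
          refine cf_eq b (g := fun a => -cf b i a) ?_ hk
          rw [root_opp, cf_spec b i]
          simp [Finset.sum_neg_distrib, cf_spec b i]
        exact h1 (by omega)
      rw [← P.algebraMap_pairingIn ℤ, eq_intCast]
      exact_mod_cast b.pairingIn_le_zero_of_ne hkj hk hj
    · rw [Finset.disjoint_left]
      intro i h1 h2
      simp only [Set.Finite.mem_toFinset, Set.mem_ofPred_eq, Finset.mem_filter, Finset.mem_univ,
        true_and] at h1 h2
      exact h2.1 h1

theorem psi_eq (hb : b ∈ F.cham) (j₀ : b.support) :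
    F.Psi (fundWeight b j₀) =
      {i | cf b i j₀ = 1 ∧ ∀ j : b.support, F.sgn j ≠ 0 → j ≠ j₀ → cf b i j = 0} := by
  ext i
  have hcorr : ∀ j : b.support, Corr P (fundWeight b j) (fundCoweight b j) :=
    fun j => ⟨b, j, rfl, rfl⟩
  simp only [Facet.Psi, Set.mem_ofPred_eq, corners_eq hb]
  constructor
  · rintro ⟨h1, h2⟩
    refine ⟨?_, fun j hj hne => ?_⟩
    · have := h1 _ (hcorr j₀)
      rw [root'_fundCoweight] at this
      exact_mod_cast this
    · have := h2 _ ⟨j, hj, rfl⟩ (fun e => hne (fundWeight_injective b e)) _ (hcorr j)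
      rw [root'_fundCoweight] at this
      exact_mod_cast this
  · rintro ⟨h1, h2⟩
    refine ⟨fun x hx => ?_, ?_⟩
    · rw [corr_unique hx (hcorr j₀), root'_fundCoweight, h1, Int.cast_one]
    · rintro _ ⟨j, hj, rfl⟩ hne x hx
      rw [corr_unique hx (hcorr j), root'_fundCoweight,
        h2 j hj (fun e => hne (by rw [e])), Int.cast_zero]

theorem psi_invariant (hb : b ∈ F.cham) (j₀ : b.support) (h₀ : F.sgn j₀ ≠ 0) {k : ι}
    (hk : k ∈ b.support) (hk0 : F.sgn k = 0) {i : ι} (hi : i ∈ F.Psi (fundWeight b j₀)) :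
    P.reflectionPerm k i ∈ F.Psi (fundWeight b j₀) := by
  rw [psi_eq hb] at hi ⊢
  have key : ∀ j : b.support, F.sgn j ≠ 0 → cf b (P.reflectionPerm k i) j = cf b i j := by
    intro j hj
    have hne : (⟨k, hk⟩ : b.support) ≠ j := fun e => hj (e ▸ hk0)
    have : P.root' (P.reflectionPerm k i) (fundCoweight b j) = P.root' i (fundCoweight b j) := by
      show P.toLinearMap (P.root _) _ = P.toLinearMap (P.root i) _
      rw [P.root_reflectionPerm, P.reflection_apply, map_sub, map_smul, LinearMap.sub_apply,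
        LinearMap.smul_apply,
        show P.toLinearMap (P.root k) (fundCoweight b j) = 0 from
          root'_fundCoweight_of_ne b j ⟨k, hk⟩ hne, smul_zero, sub_zero]
    rw [root'_fundCoweight, root'_fundCoweight] at this
    exact_mod_cast this
  exact ⟨(key j₀ h₀).trans hi.1, fun j hj hne => (key j hj).trans (hi.2 j hj hne)⟩

end Groth.Agent.RootCh
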