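import Groth.Agent.RootCh.Facets
import Groth.Agent.RootCh.Farkas
import Groth.Prelude.Def_RootCh2

/-! Complementary convex solids: monotonicity, dual solids, degrees, the special facet. -/

set_option autoImplicit false

noncomputable section

namespace Groth.Agent.RootCh

open RootPairing Module Set _root_.RootCh

variable {ι R M N : Type*} [Field R] [LinearOrder R] [IsStrictOrderedRing R]
  [AddCommGroup M] [Module R M] [AddCommGroup N] [Module R N] [Finite ι]
  {P : RootPairing ι R M N} [P.IsRootSystem] [P.IsCrystallographic] [P.IsReduced]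

omit [IsStrictOrderedRing R] [LinearOrder R] [P.IsRootSystem] [P.IsCrystallographic]
  [P.IsReduced] in
theorem finite_bases : Finite P.Base :=
  Finite.of_injective (fun b : P.Base => b.support) fun b b' h => by
    cases b; cases b'; simp only at h; subst h; rfl

omit [P.IsRootSystem] [P.IsCrystallographic] [P.IsReduced] in
theorem finite_facets : Finite (Facet P) :=
  Finite.of_injective (fun F : Facet P => F.sgn) fun _ _ h => Facet.ext h

omit [P.IsCrystallographic] [P.IsReduced] in
theorem pair_ext (b : P.Base) {y z : N}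
    (h : ∀ k : b.support, P.toLinearMap (fundWeight b k) y = P.toLinearMap (fundWeight b k) z) :
    y = z := by
  apply P.flip.toPerfPair.injective
  ext m
  show P.toLinearMap m y = P.toLinearMap m z
  rw [exists_sum_fundWeight b m]
  simp only [map_sum, map_smul, LinearMap.sum_apply, LinearMap.smul_apply]
  exact Finset.sum_congr rfl fun k _ => by rw [h k]

variable {d : P.Base → N}

/-- The inequality across a wall. -/
theorem wall (hd : IsCCS d) {b b' : P.Base} {j : ι} (hj : j ∈ b.support)
    (hb' : ∀ i, b'.IsPos i ↔ b.IsPos (P.reflectionPerm j i)) :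
    ∃ a : R, 0 ≤ a ∧ d b' = d b + a • P.coroot j := by
  classical
  have hiff := neighbour_isPos_iff b hj hb'
  have hjp := RootPairing.Base.isPos_of_mem_support hj
  have hopp : b'.IsPos (P.reflectionPerm j j) := (hiff _).mpr (Or.inr rfl)
  have hk : ∀ k : b.support, k ≠ ⟨j, hj⟩ → fundWeight b k ∈ baseCorners b' := by
    intro k hk
    refine ⟨⟨b, k, rfl⟩, fun i hi => ?_⟩
    rcases (hiff i).mp (RootPairing.Base.isPos_of_mem_support hi) with ⟨h, -⟩ | rfl
    · exact coroot'_nonneg b (fundWeight_mem_closedChamber b k) h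
    · have h := coroot'_fundWeight_of_ne b k ⟨j, hj⟩ (Ne.symm hk)
      simp only at h
      rw [coroot'_opp, h, neg_zero]
  have hj' : fundWeight b ⟨j, hj⟩ ∉ baseCorners b' := by
    rintro ⟨-, h⟩
    have h1 := coroot'_nonneg b' h hopp
    have h2 := coroot'_fundWeight_self b ⟨j, hj⟩
    simp only at h2
    rw [coroot'_opp, h2] at h1
    linarith
  have hcommon : baseCorners b ∩ baseCorners b' =
      fundWeight b '' ((Finset.univ.erase ⟨j, hj⟩ : Finset b.support) : Set b.support) := by
    rw [baseCorners_eq b]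
    ext m
    constructor
    · rintro ⟨⟨k, rfl⟩, hm⟩
      refine ⟨k, ?_, rfl⟩
      simp only [Finset.coe_erase, Finset.coe_univ, mem_sdiff, mem_univ, mem_singleton_iff,
        true_and]
      rintro rfl
      exact hj' hm
    · rintro ⟨k, hk', rfl⟩
      simp only [Finset.coe_erase, Finset.coe_univ, mem_sdiff, mem_univ, mem_singleton_iff,
        true_and] at hk'
      exact ⟨⟨k, rfl⟩, hk k hk'⟩
  have hcard : (baseCorners b ∩ baseCorners b').ncard + 1 = b.support.card := by
    rw [hcommon, Set.ncard_image_of_injective _ (fundWeight_injective b), Set.ncard_coe_finset,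
      Finset.card_erase_add_one (Finset.mem_univ _), Finset.card_univ, Fintype.card_coe]
  have hle := hd.wall_le b b' j hcard fun i => by
    rw [hiff]
    constructor
    · rintro ⟨h1, h2⟩
      exact by_contra fun h => h2 (Or.inl ⟨h1, h⟩)
    · rintro rfl
      refine ⟨hjp, ?_⟩
      rintro (⟨-, h⟩ | h)
      · exact h rfl
      · exact (isPos_opp b i).mp (h ▸ hjp) hjp
  set a := P.toLinearMap (fundWeight b ⟨j, hj⟩) (d b' - d b) with ha
  have he : d b' - d b = a • P.coroot j := by
    refine pair_ext b fun k => ?_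
    rw [map_smul, smul_eq_mul]
    rcases eq_or_ne k ⟨j, hj⟩ with rfl | hne
    · have h := coroot'_fundWeight_self b ⟨j, hj⟩
      rw [show P.toLinearMap (fundWeight b ⟨j, hj⟩) (P.coroot j) = 1 from h, mul_one]
    · have h := coroot'_fundWeight_of_ne b k ⟨j, hj⟩ (Ne.symm hne)
      rw [show P.toLinearMap (fundWeight b k) (P.coroot j) = 0 from h, mul_zero, map_sub,
        hd.corner_eq b b' _ (baseCorners_eq b ▸ ⟨k, rfl⟩) (hk k hne), sub_self]
  refine ⟨a, ?_, by rw [← he]; abel⟩
  have h2 : P.root' j (d b') - P.root' j (d b) = a * 2 := by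
    rw [← map_sub, he, map_smul, smul_eq_mul]
    congr 1
    show P.toLinearMap (P.root j) (P.coroot j) = 2
    exact P.root_coroot_two j
  linarith

theorem mono (hd : IsCCS d) :
    ∀ (b b' : P.Base), ∀ m ∈ baseCorners b, P.toLinearMap m (d b) ≤ P.toLinearMap m (d b') := by
  classical
  haveI := Fintype.ofFinite ι
  intro b b'
  generalize hn : (Finset.univ.filter fun i => b.IsPos i ∧ ¬ b'.IsPos i).card = n
  induction n using Nat.strong_induction_on generalizing b' with
  | _ n ih =>
    intro m hm
    by_cases hall : ∀ j ∈ b'.support, b.IsPos j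
    · have hsub : ∀ i, b'.IsPos i → b.IsPos i := fun i hi =>
        hi.induction_on_add hall fun i j k hk hi hj => hi.add (hall j hj) hk
      have : b = b' := base_ext fun i => ⟨fun hi => by_contra fun hn' =>
        (isPos_opp b i).mp (hsub _ ((isPos_opp b' i).mpr hn')) hi, hsub i⟩
      rw [this]
    push Not at hall
    obtain ⟨j, hj, hjn⟩ := hall
    obtain ⟨b'', hb''⟩ := exists_neighbour b' hj
    have hiff := neighbour_isPos_iff b' hj hb''
    have hlt : (Finset.univ.filter fun i => b.IsPos i ∧ ¬ b''.IsPos i).card < n := by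
      rw [← hn]
      refine Finset.card_lt_card ⟨fun i hi => ?_, fun hsub => ?_⟩
      · simp only [Finset.mem_filter, Finset.mem_univ, true_and] at hi ⊢
        exact ⟨hi.1, fun h => hi.2 ((hiff i).mpr (Or.inl ⟨h, fun e => hjn (e ▸ hi.1)⟩))⟩
      · have h' := hsub (x := P.reflectionPerm j j) (Finset.mem_filter.mpr ⟨Finset.mem_univ _,
          (isPos_opp b j).mpr hjn,
          fun h => (isPos_opp b' j).mp h (RootPairing.Base.isPos_of_mem_support hj)⟩)
        simp only [Finset.mem_filter, Finset.mem_univ, true_and] at h'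
        exact h'.2 ((hiff _).mpr (Or.inr rfl))
    refine (ih _ hlt b'' rfl m hm).trans ?_
    obtain ⟨a, ha, he⟩ := wall hd hj hb''
    rw [he, map_add, map_smul, smul_eq_mul]
    have hm' : P.coroot' j m ≤ 0 := by
      have := coroot'_nonneg b hm.2 ((isPos_opp b j).mpr hjn)
      rw [coroot'_opp] at this
      linarith
    have := mul_nonpos_of_nonneg_of_nonpos ha hm'
    have h0 : P.toLinearMap m (P.coroot j) = P.coroot' j m := rfl
    rw [h0]
    linarith

/-! ### Corners and values of `d` -/

omit [IsStrictOrderedRing R] [LinearOrder R] [Finite ι] [P.IsRootSystem] [P.IsCrystallographic]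
  [P.IsReduced] in
theorem eq_on_span {s : Set M} {y z : N}
    (h : ∀ m ∈ s, P.toLinearMap m y = P.toLinearMap m z) {v : M} (hv : v ∈ Submodule.span R s) :
    P.toLinearMap v y = P.toLinearMap v z :=
  LinearMap.eqOn_span (f := P.toLinearMap.flip y) (g := P.toLinearMap.flip z) h hv

theorem coroot'_eq_zero_of_mem_span {F : Facet P} {b : P.Base} (hb : b ∈ F.cham) {k : ι}
    (hk : k ∈ b.support) (h0 : F.sgn k = 0) {v : M} (hv : v ∈ Submodule.span R F.corners) :
    P.coroot' k v = 0 := by
  refine LinearMap.eqOn_span (f := P.coroot' k) (g := 0) (fun w hw => ?_) hv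
  rw [corners_eq hb] at hw
  obtain ⟨l, hl, rfl⟩ := hw
  exact coroot'_fundWeight_of_ne b l ⟨k, hk⟩ fun e => hl (e ▸ h0)

theorem pair_eq_of_mem_span (hd : IsCCS d) {F : Facet P} {b b' : P.Base} (hb : b ∈ F.cham)
    (hb' : b' ∈ F.cham) {v : M} (hv : v ∈ Submodule.span R F.corners) :
    P.toLinearMap v (d b) = P.toLinearMap v (d b') := by
  exact eq_on_span (fun v hv => hd.corner_eq b b' v (corners_subset_baseCorners hb hv)
    (corners_subset_baseCorners hb' hv)) hv

omit [IsStrictOrderedRing R] [LinearOrder R] [P.IsRootSystem] [P.IsCrystallographic]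
  [P.IsReduced] [Finite ι] in
theorem sum_root' (S : Finset ι) (y : N) :
    ∑ i ∈ S, P.root' i y = P.toLinearMap (∑ i ∈ S, P.root i) y := by
  rw [map_sum, LinearMap.sum_apply]

/-- The sum of the roots of the parabolic set of a facet. -/
def parabSum (F : Facet P) : M := ∑ i ∈ (Set.toFinite F.parab).toFinset, P.root i

omit [P.IsCrystallographic] [P.IsReduced] in
theorem deg_eq (F : Facet P) (b : P.Base) :
    F.deg d b = P.toLinearMap (parabSum F) (d b) := sum_root' _ _

theorem parabSum_mem_span (F : Facet P) : parabSum F ∈ Submodule.span R F.corners := by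
  rw [← span_carrier]
  exact Submodule.subset_span (parabSum_mem_carrier F)

theorem deg_indep (hd : IsCCS d) {F : Facet P} {b b' : P.Base} (hb : b ∈ F.cham)
    (hb' : b' ∈ F.cham) : F.deg d b = F.deg d b' := by
  rw [deg_eq, deg_eq]
  exact pair_eq_of_mem_span hd hb hb' (parabSum_mem_span F)

theorem psiSum_mem_span {F : Facet P} {b : P.Base} (hb : b ∈ F.cham) {m : M}
    (hm : m ∈ F.corners) :
    (∑ i ∈ (Set.toFinite (F.Psi m)).toFinset, P.root i) ∈ Submodule.span R F.corners := by
  rw [corners_eq hb] at hm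
  obtain ⟨j, hj, rfl⟩ := hm
  refine sum_invariant_mem_span hb _ fun k hk hk0 i hi => ?_
  rw [Set.Finite.mem_toFinset] at hi ⊢
  exact psi_invariant hb j hj hk hk0 hi

theorem numInv_indep (hd : IsCCS d) {F : Facet P} {b b' : P.Base} (hb : b ∈ F.cham)
    (hb' : b' ∈ F.cham) {m : M} (hm : m ∈ F.corners) : F.numInv d m b = F.numInv d m b' := by
  rw [Facet.numInv, Facet.numInv, sum_root', sum_root']
  exact pair_eq_of_mem_span hd hb hb' (psiSum_mem_span hb hm)

theorem mem_halfClosed_iff (hd : IsCCS d) {b : P.Base} {m : M} (hm : m ∈ baseCorners b)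
    {y : N} : y ∈ halfClosed d m ↔ P.toLinearMap m (d b) ≤ P.toLinearMap m y :=
  ⟨fun h => h b hm, fun h c hc => by rw [hd.corner_eq c b m hc hm]; exact h⟩

omit [P.IsCrystallographic] [P.IsReduced] in
theorem mem_hyper_iff (hd : IsCCS d) {b : P.Base} {m : M} (hm : m ∈ baseCorners b)
    {y : N} : y ∈ hyper d m ↔ P.toLinearMap m y = P.toLinearMap m (d b) :=
  ⟨fun h => h b hm, fun h c hc => by rw [hd.corner_eq c b m hc hm]; exact h⟩

omit [P.IsCrystallographic] [P.IsReduced] in
theorem convex_hyper (m : M) : Convex R (hyper d m) := by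
  intro x hx y hy s t _ _ hst b hb
  rw [map_add, map_smul, map_smul, hx b hb, hy b hb, ← add_smul, hst, one_smul]

omit [P.IsCrystallographic] [P.IsReduced] in
theorem convex_halfClosed (m : M) : Convex R (halfClosed d m) := by
  intro x hx y hy s t hs ht hst b hb
  rw [map_add, map_smul, map_smul, smul_eq_mul, smul_eq_mul]
  calc P.toLinearMap m (d b) = s * P.toLinearMap m (d b) + t * P.toLinearMap m (d b) := by
        rw [← add_mul, hst, one_mul]
    _ ≤ _ := add_le_add (mul_le_mul_of_nonneg_left (hx b hb) hs)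
        (mul_le_mul_of_nonneg_left (hy b hb) ht)

theorem solid_subset_halfClosed (hd : IsCCS d) (m : M) : solid d ⊆ halfClosed d m :=
  convexHull_min (by rintro _ ⟨c, rfl⟩ b hb; exact mono hd b c m hb) (convex_halfClosed m)

omit [P.IsCrystallographic] [P.IsReduced] in
theorem dualSolid_subset_solid (F : Facet P) : dualSolid d F ⊆ solid d :=
  convexHull_mono (Set.image_subset_range _ _)

theorem dualSolid_subset_hyper (hd : IsCCS d) {F : Facet P} {m : M} (hm : m ∈ F.corners) :
    dualSolid d F ⊆ hyper d m :=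
  convexHull_min (by
    rintro _ ⟨c, hc, rfl⟩ b hb
    exact hd.corner_eq c b m (corners_subset_baseCorners hc hm) hb) (convex_hyper m)

omit [P.IsCrystallographic] [P.IsReduced] in
/-- Evaluate a vector through its coordinates on the fundamental weights of a base. -/
theorem pair_expand (b : P.Base) (v : M) (y : N) :
    P.toLinearMap v y =
      ∑ k : b.support, P.coroot' k v * P.toLinearMap (fundWeight b k) y := by
  conv_lhs => rw [exists_sum_fundWeight b v]
  rw [map_sum, LinearMap.sum_apply]
  exact Finset.sum_congr rfl fun k _ => by rw [map_smul, LinearMap.smul_apply, smul_eq_mul]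

theorem pair_le_of_dominant {b : P.Base} {v : M} (hv : v ∈ closedChamber b) {y : N}
    (hy : ∀ k : b.support, P.toLinearMap (fundWeight b k) (d b) ≤
      P.toLinearMap (fundWeight b k) y) :
    P.toLinearMap v (d b) ≤ P.toLinearMap v y := by
  rw [pair_expand b v, pair_expand b v]
  exact Finset.sum_le_sum fun k _ => mul_le_mul_of_nonneg_left (hy k) (hv k k.2)

theorem pair_le_solid (hd : IsCCS d) {b : P.Base} {v : M} (hv : v ∈ closedChamber b) {y : N}
    (hy : y ∈ solid d) : P.toLinearMap v (d b) ≤ P.toLinearMap v y :=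
  pair_le_of_dominant hv fun k =>
    solid_subset_halfClosed hd _ hy b (baseCorners_eq b ▸ ⟨k, rfl⟩)

theorem dualSolid_eq (hd : IsCCS d) (F : Facet P) :
    dualSolid d F =
      (⋂ m ∈ F.corners, hyper d m) ∩ ⋂ m ∈ F.corners', halfClosed d m := by
  classical
  refine Set.Subset.antisymm (Set.subset_inter ?_ ?_) ?_
  · exact Set.subset_iInter₂ fun m hm => dualSolid_subset_hyper hd hm
  · exact Set.subset_iInter₂ fun m _ =>
      (dualSolid_subset_solid F).trans (solid_subset_halfClosed hd m)
  rintro y ⟨hy1, hy2⟩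
  by_contra hy
  haveI := finite_bases (P := P)
  haveI : Finite F.cham := Subtype.finite
  have hrange : Set.range (fun b : F.cham => d b) = d '' F.cham := by
    ext; simp
  rw [dualSolid, ← hrange] at hy
  obtain ⟨φ, hφ⟩ := exists_separating (fun b : F.cham => d b) hy
  obtain ⟨ξ, hξ⟩ := P.toPerfPair.surjective φ
  have hφ' : ∀ z, φ z = P.toLinearMap ξ z := fun z => by rw [← hξ]; rfl
  obtain ⟨ξ₀, hξ₀⟩ := carrier_nonempty F
  haveI := Fintype.ofFinite ι
  set q : ι → R := fun i => |P.coroot' i ξ| / |P.coroot' i ξ₀|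
  set T : R := 1 + ∑ i, q i
  have hq : ∀ i, 0 ≤ q i := fun i => by simp only [q]; positivity
  obtain ⟨b, hb⟩ := cham_nonempty (Facet.ofVec P (ξ + T • ξ₀))
  have hdom : ξ + T • ξ₀ ∈ closedChamber b := hb rfl
  have hbF : b ∈ F.cham := by
    refine mem_cham_of_mem hξ₀ fun j hj => ?_
    by_contra hlt
    have hlt' : P.coroot' j ξ₀ < 0 := not_le.mp hlt
    have h1 := hdom j hj
    rw [map_add, map_smul, smul_eq_mul] at h1
    have h2 : q j < T := by
      have := Finset.single_le_sum (fun k _ => hq k) (Finset.mem_univ j)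
      linarith
    rw [div_lt_iff₀ (abs_pos.mpr hlt'.ne), abs_of_neg hlt'] at h2
    have := le_abs_self (P.coroot' j ξ)
    linarith
  have hle : P.toLinearMap (ξ + T • ξ₀) (d b) ≤ P.toLinearMap (ξ + T • ξ₀) y := by
    refine pair_le_of_dominant hdom fun k => ?_
    simp only [Set.mem_iInter₂] at hy2
    refine hy2 _ ?_ b (baseCorners_eq b ▸ ⟨k, rfl⟩)
    exact Set.mem_biUnion hbF (baseCorners_eq b ▸ ⟨k, rfl⟩)
  have heq : P.toLinearMap ξ₀ y = P.toLinearMap ξ₀ (d b) := by
    have hv : ξ₀ ∈ Submodule.span R F.corners := span_carrier F ▸ Submodule.subset_span hξ₀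
    simp only [Set.mem_iInter₂] at hy1
    exact eq_on_span (fun v hv => hy1 v hv b (corners_subset_baseCorners hbF hv)) hv
  simp only [map_add, map_smul, LinearMap.add_apply, LinearMap.smul_apply, heq] at hle
  have := hφ ⟨b, hbF⟩
  rw [hφ', hφ'] at this
  linarith

/-! ### The origin facet and semistability -/

omit [P.IsCrystallographic] [P.IsReduced] in
theorem cham_origin (b : P.Base) : b ∈ (Facet.origin P).cham := by
  refine mem_cham_of_mem (ξ := 0) rfl fun j _ => ?_
  simp

theorem corners_origin : (Facet.origin P).corners = ∅ := by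
  obtain ⟨b, hb⟩ := cham_nonempty (Facet.origin P)
  rw [corners_eq hb, Set.image_eq_empty]
  ext j
  simp [Facet.origin, Facet.ofVec, sgnVec]

theorem semistable_iff (hd : IsCCS d) :
    IsSemistable d ↔ ∀ (b : P.Base), ∀ m ∈ baseCorners b, P.toLinearMap m (d b) ≤ 0 := by
  have hs : solid d = dualSolid d (Facet.origin P) := by
    rw [dualSolid, solid]
    congr 1
    ext y
    simp only [Set.mem_range, Set.mem_image]
    exact ⟨fun ⟨b, hb⟩ => ⟨b, cham_origin b, hb⟩, fun ⟨b, _, hb⟩ => ⟨b, hb⟩⟩
  rw [IsSemistable, hs, dualSolid_eq hd]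
  simp only [corners_origin, Set.mem_empty_iff_false, Set.iInter_of_empty, Set.iInter_univ,
    Set.mem_inter_iff, Set.mem_univ, true_and, Set.mem_iInter₂]
  constructor
  · intro h b m hm
    have := h m (Set.mem_biUnion (cham_origin b) hm) b hm
    simpa using this
  · intro h m _ b hm
    simpa using h b m hm

theorem deg_nonpos (hd : IsCCS d) (hs : IsSemistable d) {F : Facet P} {b : P.Base}
    (hb : b ∈ F.cham) : F.deg d b ≤ 0 := by
  have := pair_le_solid hd (hb (parabSum_mem_carrier F)) hs
  rw [deg_eq]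
  exact this.trans_eq (by simp)

omit [P.IsCrystallographic] in
theorem dim_facetOf_singleton [P.IsCrystallographic] (b : P.Base) (j : b.support) :
    (facetOf b {j}).dim = 1 := by
  rw [Facet.dim, span_carrier, corners_facetOf, Finset.coe_singleton, Set.image_singleton]
  refine finrank_span_singleton fun h => ?_
  have := coroot'_fundWeight_self b j
  rw [h, map_zero] at this
  exact zero_ne_one this

theorem semistable_of_dim_one (hd : IsCCS d)
    (h : ∀ (F : Facet P) (b : P.Base), F.dim = 1 → b ∈ F.cham → F.deg d b ≤ 0) :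
    IsSemistable d := by
  classical
  rw [semistable_iff hd]
  intro b m hm
  rw [baseCorners_eq] at hm
  obtain ⟨j, rfl⟩ := hm
  have hb := mem_cham_facetOf b ({j} : Finset b.support)
  have h1 := h _ b (dim_facetOf_singleton b j) hb
  have hv := parabSum_mem_carrier (facetOf b ({j} : Finset b.support))
  have hs : supp (facetOf b ({j} : Finset b.support)) b = {j} := by
    ext k; rw [mem_supp, sgn_facetOf]
  rw [deg_eq, parabSum, eq_sum_supp hb hv, hs, Finset.sum_singleton, map_smul,
    LinearMap.smul_apply, smul_eq_mul] at h1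
  have hpos := ((mem_carrier_iff hb _).mp hv j j.2).2
    ((sgn_facetOf b _ j).mpr (Finset.mem_singleton_self j))
  exact nonpos_of_mul_nonpos_right h1 hpos

/-! ### The point `y(F)` -/

theorem exists_yv (hd : IsCCS d) (F : Facet P) :
    ∃ u ∈ Submodule.span R F.corners, yLocus d F = {pol P u} := by
  classical
  obtain ⟨b, hb⟩ := cham_nonempty F
  set W := Submodule.span R F.corners with hW
  haveI : Finite F.corners := (corners_finite F).to_subtype
  haveI : FiniteDimensional R W := by
    rw [hW]; exact FiniteDimensional.span_of_finite R (corners_finite F)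
  let L : W →ₗ[R] Module.Dual R W := (W.subtype.dualMap) ∘ₗ (ip P) ∘ₗ W.subtype
  have hL : ∀ u w : W, L u w = ip P (u : M) (w : M) := fun u w => rfl
  have hinj : Function.Injective L := by
    rw [injective_iff_map_eq_zero]
    intro u hu
    by_contra hne
    have := ip_pos P (x := (u : M)) (by simpa using hne)
    rw [← hL, hu] at this
    simp at this
  obtain ⟨u, hu⟩ := (LinearMap.injective_iff_surjective_of_finrank_eq_finrank
    Subspace.dual_finrank_eq.symm).mp hinj ((P.toLinearMap.flip (d b)) ∘ₗ W.subtype)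
  have hu' : ∀ w ∈ W, P.toLinearMap w (pol P u) = P.toLinearMap w (d b) := by
    intro w hw
    have := LinearMap.congr_fun hu ⟨w, hw⟩
    rw [hL] at this
    rw [pair_pol]
    exact this
  have hspan : Submodule.span R F.dualCarrier = W.map (pol P).toLinearMap := span_dualCarrier F
  refine ⟨u, u.2, Set.Subset.antisymm ?_ ?_⟩
  · rintro y ⟨hy, hys⟩
    rw [hspan] at hys
    obtain ⟨v, hv, rfl⟩ := hys
    simp only [Set.mem_iInter₂] at hy
    have hvu : ∀ w ∈ W, P.toLinearMap w (pol P v) = P.toLinearMap w (d b) := by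
      intro w hw
      exact eq_on_span (fun w hw => hy w hw b (corners_subset_baseCorners hb hw)) hw
    have hw : v - u ∈ W := W.sub_mem hv u.2
    have h0 : ip P (v - u) (v - u) = 0 := by
      rw [← pair_pol, map_sub (pol P), map_sub (P.toLinearMap (v - (u : M))), hu' _ hw, hvu _ hw,
        sub_self]
    have : v = u := sub_eq_zero.mp (by_contra fun hne => (ip_pos P hne).ne' h0)
    rw [Set.mem_singleton_iff, LinearEquiv.coe_coe, this]
  · rintro y rfl
    refine ⟨?_, ?_⟩
    · simp only [Set.mem_iInter₂]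
      exact fun m hm => (mem_hyper_iff hd (corners_subset_baseCorners hb hm)).mpr
        (hu' m (Submodule.subset_span hm))
    · rw [SetLike.mem_coe, hspan]
      exact ⟨u, u.2, rfl⟩

/-- The point `y(F)`, transported to `M`. -/
def yv (hd : IsCCS d) (F : Facet P) : M := (exists_yv hd F).choose

theorem yv_mem_span (hd : IsCCS d) (F : Facet P) : yv hd F ∈ Submodule.span R F.corners :=
  (exists_yv hd F).choose_spec.1

theorem yLocus_eq (hd : IsCCS d) (F : Facet P) : yLocus d F = {pol P (yv hd F)} :=
  (exists_yv hd F).choose_spec.2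

theorem eq_y (hd : IsCCS d) {F : Facet P} {z : N} (h1 : z ∈ dualSolid d F)
    (h2 : z ∈ Submodule.span R F.dualCarrier) : z = pol P (yv hd F) := by
  have : z ∈ yLocus d F :=
    ⟨Set.mem_iInter₂.mpr fun m hm => dualSolid_subset_hyper hd hm h1, h2⟩
  rwa [yLocus_eq hd, Set.mem_singleton_iff] at this

theorem pair_y (hd : IsCCS d) {F : Facet P} {b : P.Base} (hb : b ∈ F.cham) {v : M}
    (hv : v ∈ Submodule.span R F.corners) :
    P.toLinearMap v (pol P (yv hd F)) = P.toLinearMap v (d b) := by
  have hy : pol P (yv hd F) ∈ yLocus d F := by rw [yLocus_eq hd]; rfl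
  have hy' := hy.1
  simp only [Set.mem_iInter₂] at hy'
  exact eq_on_span (fun w hw => hy' w hw b (corners_subset_baseCorners hb hw)) hv

theorem special_iff (hd : IsCCS d) (F : Facet P) :
    IsSpecial d F ↔ yv hd F ∈ F.carrier ∧ pol P (yv hd F) ∈ dualSolid d F := by
  constructor
  · rintro ⟨z, hz1, hz2⟩
    have := eq_y hd hz2 (Submodule.subset_span hz1)
    subst this
    rw [dualCarrier_eq] at hz1
    obtain ⟨u, hu, he⟩ := hz1
    exact ⟨(pol P).injective he ▸ hu, hz2⟩
  · rintro ⟨h1, h2⟩
    exact ⟨_, dualCarrier_eq F ▸ ⟨_, h1, rfl⟩, h2⟩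

theorem special_inter (hd : IsCCS d) {F : Facet P} (hF : IsSpecial d F) :
    F.dualCarrier ∩ dualSolid d F = {pol P (yv hd F)} := by
  obtain ⟨h1, h2⟩ := (special_iff hd F).mp hF
  refine Set.Subset.antisymm (fun z hz => eq_y hd hz.2 (Submodule.subset_span hz.1)) ?_
  rintro z rfl
  exact ⟨dualCarrier_eq F ▸ ⟨_, h1, rfl⟩, h2⟩

theorem numInv_eq (hd : IsCCS d) {F : Facet P} {b : P.Base} (hb : b ∈ F.cham) (j₀ : b.support)
    (hj₀ : F.sgn j₀ ≠ 0) :
    F.numInv d (fundWeight b j₀) b =
      (Set.toFinite (F.Psi (fundWeight b j₀))).toFinset.card *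
        (len P j₀ * P.coroot' j₀ (yv hd F)) := by
  have hm : fundWeight b j₀ ∈ F.corners := by rw [corners_eq hb]; exact ⟨j₀, hj₀, rfl⟩
  rw [Facet.numInv, sum_root', ← pair_y hd hb (psiSum_mem_span hb hm), ← sum_root',
    ← nsmul_eq_mul, ← Finset.sum_const]
  refine Finset.sum_congr rfl fun i hi => ?_
  rw [Set.Finite.mem_toFinset, psi_eq hb] at hi
  rw [root'_eq_sum b, Finset.sum_eq_single_of_mem (j₀ : ι) j₀.2]
  · rw [hi.1, Int.cast_one, one_mul, root'_pol]
  · intro k hk hne
    by_cases h0 : F.sgn k = 0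
    · rw [root'_pol]
      have hz : P.coroot' k (yv hd F) = 0 :=
        coroot'_eq_zero_of_mem_span hb hk h0 (yv_mem_span hd F)
      rw [hz, mul_zero, mul_zero]
    · rw [hi.2 ⟨k, hk⟩ h0 fun e => hne (congrArg Subtype.val e), Int.cast_zero, zero_mul]

theorem yv_mem_carrier (hd : IsCCS d) {F : Facet P} {b : P.Base} (hb : b ∈ F.cham)
    (hpos : ∀ j : b.support, F.sgn j ≠ 0 → 0 < P.coroot' j (yv hd F)) :
    yv hd F ∈ F.carrier := by
  rw [mem_carrier_iff hb]
  exact fun j hj => ⟨fun h0 => coroot'_eq_zero_of_mem_span hb hj h0 (yv_mem_span hd F),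
    hpos ⟨j, hj⟩⟩

theorem special_equiv (hd : IsCCS d) (F : Facet P) :
    ((∀ m ∈ F.corners, ∀ b ∈ F.cham, 0 < F.numInv d m b) ∧
      (dualSolid d F ∩ (Submodule.span R F.dualCarrier : Set N)).Nonempty) ↔
      IsSpecial d F := by
  obtain ⟨b, hb⟩ := cham_nonempty F
  rw [special_iff hd]
  constructor
  · rintro ⟨h1, z, hz1, hz2⟩
    refine ⟨yv_mem_carrier hd hb fun j hj => ?_, eq_y hd hz1 hz2 ▸ hz1⟩
    have := h1 _ (by rw [corners_eq hb]; exact ⟨j, hj, rfl⟩) b hb
    rw [numInv_eq hd hb j hj] at this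
    exact pos_of_mul_pos_right (pos_of_mul_pos_right this (Nat.cast_nonneg _)) (len_pos P j).le
  · rintro ⟨h1, h2⟩
    refine ⟨fun m hm c hc => ?_, _, h2, ?_⟩
    · rw [corners_eq hc] at hm
      obtain ⟨j, hj, rfl⟩ := hm
      rw [numInv_eq hd hc j hj]
      refine mul_pos ?_ (mul_pos (len_pos P j) (((mem_carrier_iff hc _).mp h1 j j.2).2 hj))
      rw [Nat.cast_pos, Finset.card_pos]
      refine ⟨j, ?_⟩
      classical
      rw [Set.Finite.mem_toFinset, psi_eq hc]
      refine ⟨by rw [cf_simple c j.2 j.2]; simp, fun k _ hne => ?_⟩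
      rw [cf_simple c j.2 k.2, if_neg fun e => hne (Subtype.ext e)]
    · rw [SetLike.mem_coe, span_dualCarrier]
      exact ⟨_, yv_mem_span hd F, rfl⟩

end Groth.Agent.RootCh
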