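import Groth.Agent.RootCh.Solid

/-! The special facet: nearest point to the origin and largest facet of maximal degree. -/

set_option autoImplicit false

noncomputable section

namespace Groth.Agent.RootCh

open RootPairing Module Set _root_.RootCh

variable {ι R M N : Type*} [Field R] [LinearOrder R] [IsStrictOrderedRing R]
  [AddCommGroup M] [Module R M] [AddCommGroup N] [Module R N] [Finite ι]
  {P : RootPairing ι R M N} [P.IsRootSystem] [P.IsCrystallographic] [P.IsReduced]
  {d : P.Base → N}

omit [Finite ι] [P.IsCrystallographic] [P.IsReduced] in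
/-- An invariant scalar product turns a point of a dual facet into a point of the facet. -/
theorem exists_carrier_of_form (B : LinearMap.BilinForm R N)
    (hBp : ∀ y : N, y ≠ 0 → 0 < B y y)
    (hBi : ∀ (i : ι) (y z : N), B (P.coreflection i y) (P.coreflection i z) = B y z)
    {F : Facet P} {y₀ : N} (hy : y₀ ∈ F.dualCarrier) :
    ∃ ξ ∈ F.carrier, ∀ z, P.toLinearMap ξ z = B y₀ z := by
  obtain ⟨ξ, hξ⟩ := P.toPerfPair.surjective (B y₀)
  have hξ' : ∀ z, P.toLinearMap ξ z = B y₀ z := fun z => by rw [← hξ]; rfl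
  refine ⟨ξ, ?_, hξ'⟩
  funext i
  have hne : P.coroot i ≠ 0 := P.ne_zero' i
  have h := hBi i y₀ (P.coroot i)
  rw [P.coreflection_apply_self, P.coreflection_apply] at h
  simp only [map_neg, map_sub, map_smul, LinearMap.sub_apply, LinearMap.smul_apply,
    smul_eq_mul] at h
  have he : P.coroot' i ξ = P.root' i y₀ * (B (P.coroot i) (P.coroot i) / 2) := by
    show P.toLinearMap ξ (P.coroot i) = _
    rw [hξ']
    have : P.root' i y₀ = P.toLinearMap (P.root i) y₀ := rfl
    rw [this]
    linear_combination (-(1 : R) / 2) * h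
  show SignType.sign (P.coroot' i ξ) = F.sgn i
  rw [he, sign_mul, sign_pos (div_pos (hBp _ hne) two_pos), mul_one]
  exact congrFun hy i

/-- The special point is the strictly nearest point of the solid to the origin. -/
theorem special_nearest (hd : IsCCS d) (B : LinearMap.BilinForm R N)
    (hBs : ∀ y z : N, B y z = B z y) (hBp : ∀ y : N, y ≠ 0 → 0 < B y y)
    (hBi : ∀ (i : ι) (y z : N), B (P.coreflection i y) (P.coreflection i z) = B y z)
    {F : Facet P} (hF : IsSpecial d F) :
    ∃ y₀ : N, yLocus d F = {y₀} ∧ y₀ ∈ solid d ∧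
      ∀ y ∈ solid d, y ≠ y₀ → B y₀ y₀ < B y y := by
  refine ⟨pol P (yv hd F), yLocus_eq hd F, ?_, fun y hy hne => ?_⟩
  · exact dualSolid_subset_solid F ((special_iff hd F).mp hF).2
  obtain ⟨hc, hs⟩ := (special_iff hd F).mp hF
  set y₀ := pol P (yv hd F)
  obtain ⟨ξ, hξ, hξB⟩ := exists_carrier_of_form B hBp hBi (F := F) (y₀ := y₀)
    (dualCarrier_eq F ▸ ⟨_, hc, rfl⟩)
  obtain ⟨b, hb⟩ := cham_nonempty F
  have h1 := pair_le_solid hd (hb hξ) hy
  rw [← pair_y hd hb (span_carrier F ▸ Submodule.subset_span hξ), hξB, hξB] at h1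
  have h2 := hBp (y - y₀) (sub_ne_zero.mpr hne)
  have h3 : B y y = B y₀ y₀ + 2 * (B y₀ y - B y₀ y₀) + B (y - y₀) (y - y₀) := by
    simp only [map_sub, LinearMap.sub_apply, hBs y y₀]
    ring
  linarith

theorem nearest_special (hd : IsCCS d) (B : LinearMap.BilinForm R N)
    (hBs : ∀ y z : N, B y z = B z y) (hBp : ∀ y : N, y ≠ 0 → 0 < B y y)
    (hBi : ∀ (i : ι) (y z : N), B (P.coreflection i y) (P.coreflection i z) = B y z)
    {y₀ : N} (hy₀ : y₀ ∈ solid d) (hmin : ∀ y ∈ solid d, B y₀ y₀ ≤ B y y)
    {F : Facet P} (hF : y₀ ∈ F.dualCarrier) : IsSpecial d F ∧ yLocus d F = {y₀} := by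
  classical
  obtain ⟨ξ, hξ, hξB⟩ := exists_carrier_of_form B hBp hBi hF
  have hnn : ∀ y, 0 ≤ B y y := fun y => by
    rcases eq_or_ne y 0 with rfl | h
    · simp
    · exact (hBp y h).le
  have hfo : ∀ z ∈ solid d, B y₀ y₀ ≤ B y₀ z := by
    intro z hz
    by_contra hlt
    rw [not_le] at hlt
    set p := B y₀ z - B y₀ y₀ with hp
    set q := B (z - y₀) (z - y₀) with hq
    have hq0 : 0 ≤ q := hnn _
    have hp0 : p < 0 := by linarith
    set t : R := min 1 (-p / (q + 1))
    have ht0 : 0 < t := lt_min one_pos (div_pos (by linarith) (by linarith))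
    have ht1 : t ≤ 1 := min_le_left _ _
    have ht2 : t * (q + 1) ≤ -p := by
      rw [← le_div_iff₀ (by linarith)]; exact min_le_right _ _
    have hmem : y₀ + t • (z - y₀) ∈ solid d :=
      (convex_convexHull R _).add_smul_sub_mem hy₀ hz ⟨ht0.le, ht1⟩
    have h := hmin _ hmem
    have he : B (y₀ + t • (z - y₀)) (y₀ + t • (z - y₀)) = B y₀ y₀ + t * (2 * p + t * q) := by
      simp only [hp, hq, map_add, map_sub, map_smul, LinearMap.add_apply, LinearMap.sub_apply,
        LinearMap.smul_apply, smul_eq_mul, hBs z y₀]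
      ring
    rw [he] at h
    have hneg : 2 * p + t * q < 0 := by linarith [mul_add t q 1]
    linarith [mul_neg_of_pos_of_neg ht0 hneg]
  have hcor : ∀ b ∈ F.cham, ∀ k : b.support, F.sgn k ≠ 0 →
      P.toLinearMap (fundWeight b k) y₀ = P.toLinearMap (fundWeight b k) (d b) := by
    intro b hb k hk
    have hge : ∀ l : b.support,
        P.toLinearMap (fundWeight b l) (d b) ≤ P.toLinearMap (fundWeight b l) y₀ := fun l =>
      solid_subset_halfClosed hd _ hy₀ b (baseCorners_eq b ▸ ⟨l, rfl⟩)
    have h1 := hfo (d b) (subset_convexHull R _ ⟨b, rfl⟩)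
    rw [← hξB, ← hξB, pair_expand b, pair_expand b] at h1
    have hterm : ∀ l ∈ (Finset.univ : Finset b.support),
        P.coroot' l ξ * P.toLinearMap (fundWeight b l) (d b) ≤
          P.coroot' l ξ * P.toLinearMap (fundWeight b l) y₀ :=
      fun l _ => mul_le_mul_of_nonneg_left (hge l) (hb hξ l l.2)
    have h2 := (Finset.sum_eq_sum_iff_of_le hterm).mp
      (le_antisymm (Finset.sum_le_sum hterm) h1) k (Finset.mem_univ k)
    exact (mul_left_cancel₀ (((mem_carrier_iff hb ξ).mp hξ k k.2).2 hk).ne' h2).symm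
  have hds : y₀ ∈ dualSolid d F := by
    rw [dualSolid_eq hd]
    refine ⟨Set.mem_iInter₂.mpr fun m hm => ?_, Set.mem_iInter₂.mpr fun m _ =>
      solid_subset_halfClosed hd m hy₀⟩
    obtain ⟨b, hb⟩ := cham_nonempty F
    refine (mem_hyper_iff hd (corners_subset_baseCorners hb hm)).mpr ?_
    rw [corners_eq hb] at hm
    obtain ⟨k, hk, rfl⟩ := hm
    exact hcor b hb k hk
  refine ⟨⟨y₀, hF, hds⟩, ?_⟩
  rw [yLocus_eq hd, eq_y hd hds (Submodule.subset_span hF)]

/-! ### Degrees -/

theorem parabSum_mem (F : Facet P) : parabSum F ∈ F.carrier := parabSum_mem_carrier F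


omit [P.IsCrystallographic] [P.IsReduced] in
theorem ip_parabSum (F : Facet P) (w : M) :
    P.toLinearMap (parabSum F) (pol P w) =
      ∑ i ∈ (Set.toFinite F.parab).toFinset, len P i * P.coroot' i w := by
  rw [parabSum, ← sum_root']
  exact Finset.sum_congr rfl fun i _ => root'_pol P w i

omit [P.IsCrystallographic] [P.IsReduced] in
/-- Comparing parabolic sums of nested facets on a vector of the closure of the bigger cell. -/
theorem parabSum_sub [DecidableEq ι] {F G : Facet P} (h : F ≤ G) (w : M) :
    P.toLinearMap (parabSum G - parabSum F) (pol P w) =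
      ∑ i ∈ (Set.toFinite G.parab).toFinset \ (Set.toFinite F.parab).toFinset,
        len P i * P.coroot' i w := by
  rw [map_sub, LinearMap.sub_apply, ip_parabSum, ip_parabSum, Finset.sum_sdiff_eq_sub]
  intro i
  simpa using fun hi => (le_iff_parab F G).mp h hi

omit [P.IsCrystallographic] [P.IsReduced] in
theorem sgn_of_extra {F G : Facet P} (h : F ≤ G) {i : ι} (hG : i ∈ G.parab) (hF : i ∉ F.parab) :
    F.sgn i = -1 ∧ G.sgn i = 0 := by
  have hF' : F.sgn i = -1 := not_not.mp hF
  refine ⟨hF', ?_⟩
  rcases h i with h' | h'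
  · exact h'
  · exact absurd (h'.trans hF') hG

/-- `v_G - v_F` is orthogonal to the corners of `G` when `F ≤ G`. -/
theorem parabSum_orth {F G : Facet P} (h : F ≤ G) {w : M}
    (hw : w ∈ Submodule.span R G.corners) :
    P.toLinearMap (parabSum G) (pol P w) = P.toLinearMap (parabSum F) (pol P w) := by
  classical
  rw [← sub_eq_zero, ← LinearMap.sub_apply, ← map_sub, parabSum_sub h]
  refine Finset.sum_eq_zero fun i hi => ?_
  simp only [Finset.mem_sdiff, Set.Finite.mem_toFinset] at hi
  obtain ⟨-, h0⟩ := sgn_of_extra h hi.1 hi.2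
  obtain ⟨b, hb⟩ := cham_nonempty G
  have : P.coroot' i w = 0 := by
    refine LinearMap.eqOn_span (f := P.coroot' i) (g := 0) (fun m hm => ?_) hw
    have h1 : SignType.sign (P.coroot' i m) = 0 ∨ SignType.sign (P.coroot' i m) = G.sgn i :=
      hm.2 i
    rw [h0, or_self, sign_eq_zero_iff] at h1
    exact h1
  rw [this, mul_zero]

theorem max_special (hd : IsCCS d) {F : Facet P} {b : P.Base} (hb : b ∈ F.cham)
    (hmax : ∀ (G : Facet P) (c : P.Base), c ∈ G.cham → G.deg d c ≤ F.deg d b)
    (hmaxl : ∀ (G : Facet P) (c : P.Base), c ∈ G.cham → G.deg d c = F.deg d b → F ≤ G → G = F) :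
    IsSpecial d F := by
  classical
  rw [special_iff hd]
  set u := yv hd F with hu
  refine ⟨yv_mem_carrier hd hb fun j hj => ?_, ?_⟩
  · -- remove the corner `j`
    set T := (supp F b).erase j
    set G := facetOf b T
    have hGc : G.corners ⊆ F.corners := by
      rw [corners_facetOf, corners_eq' hb]
      exact Set.image_mono (by exact_mod_cast Finset.erase_subset _ _)
    have hFG : F ≤ G := le_iff_corners.mpr hGc
    have hbG := mem_cham_facetOf b T
    have hlt : G.deg d b < F.deg d b := by
      refine (hmax G b hbG).lt_of_ne fun he => ?_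
      have h1 := hmaxl G b hbG he hFG
      have h2 := (sgn_facetOf b T j).mp (by rw [show facetOf b T = F from h1]; exact hj)
      exact Finset.notMem_erase j _ h2
    rw [deg_eq, deg_eq] at hlt
    have hv : parabSum G - parabSum F ∈ Submodule.span R F.corners :=
      Submodule.sub_mem _ (Submodule.span_mono hGc (parabSum_mem_span G)) (parabSum_mem_span F)
    have h3 : P.toLinearMap (parabSum G - parabSum F) (pol P u) < 0 := by
      rw [pair_y hd hb hv, map_sub, LinearMap.sub_apply]; linarith
    have hju : fundWeight b j ∈ F.corners := by rw [corners_eq hb]; exact ⟨j, hj, rfl⟩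
    have hrest : u - P.coroot' j u • fundWeight b j ∈ Submodule.span R G.corners := by
      have hexp : u = ∑ k : b.support, P.coroot' k u • fundWeight b k := exists_sum_fundWeight b u
      have : u - P.coroot' j u • fundWeight b j =
          ∑ k ∈ Finset.univ.erase j, P.coroot' k u • fundWeight b k := by
        rw [sub_eq_iff_eq_add', Finset.add_sum_erase _ (fun k : b.support => P.coroot' k u • fundWeight b k) (Finset.mem_univ j)]
        exact hexp
      rw [this]
      refine Submodule.sum_mem _ fun k hk => ?_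
      by_cases h0 : F.sgn k = 0
      · rw [coroot'_eq_zero_of_mem_span hb k.2 h0 (yv_mem_span hd F), zero_smul]
        exact Submodule.zero_mem _
      · refine Submodule.smul_mem _ _ (Submodule.subset_span ?_)
        rw [corners_facetOf]
        exact ⟨k, Finset.mem_erase.mpr ⟨(Finset.mem_erase.mp hk).1, (mem_supp k).mpr h0⟩, rfl⟩
    have h4 := parabSum_orth hFG hrest
    rw [← sub_eq_zero, ← LinearMap.sub_apply, ← map_sub, map_sub (pol P), map_smul,
      map_sub (P.toLinearMap (parabSum G - parabSum F)), map_smul, sub_eq_zero, smul_eq_mul] at h4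
    have hX : P.toLinearMap (parabSum G - parabSum F) (pol P (fundWeight b j)) ≤ 0 := by
      rw [parabSum_sub hFG]
      refine Finset.sum_nonpos fun i hi => ?_
      simp only [Finset.mem_sdiff, Set.Finite.mem_toFinset] at hi
      obtain ⟨hm, -⟩ := sgn_of_extra hFG hi.1 hi.2
      refine mul_nonpos_of_nonneg_of_nonpos (len_pos P i).le ?_
      have h1 : SignType.sign (P.coroot' i (fundWeight b j)) = 0 ∨
          SignType.sign (P.coroot' i (fundWeight b j)) = F.sgn i := hju.2 i
      rw [hm] at h1
      rcases h1 with h1 | h1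
      · exact (sign_eq_zero_iff.mp h1).le
      · exact (sign_eq_neg_one_iff.mp h1).le
    rw [h4] at h3
    by_contra hle
    rw [not_lt] at hle
    exact h3.not_ge (mul_nonneg_of_nonpos_of_nonpos hle hX)
  · rw [dualSolid_eq hd]
    refine ⟨Set.mem_iInter₂.mpr fun m hm => ?_, Set.mem_iInter₂.mpr fun m hm => ?_⟩
    · exact (mem_hyper_iff hd (corners_subset_baseCorners hb hm)).mpr
        (pair_y hd hb (Submodule.subset_span hm))
    simp only [Facet.corners', Set.mem_iUnion] at hm
    obtain ⟨c, hc, hmc⟩ := hm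
    refine (mem_halfClosed_iff hd hmc).mpr ?_
    rw [baseCorners_eq] at hmc
    obtain ⟨j, rfl⟩ := hmc
    by_cases hj : F.sgn j ≠ 0
    · rw [pair_y hd hc (Submodule.subset_span (by rw [corners_eq hc]; exact ⟨j, hj, rfl⟩))]
    rw [not_not] at hj
    set T := insert j (supp F c)
    set G := facetOf c T
    have hFc : F.corners ⊆ G.corners := by
      rw [corners_facetOf, corners_eq' hc]
      exact Set.image_mono (by exact_mod_cast Finset.subset_insert _ _)
    have hGF : G ≤ F := le_iff_corners.mpr hFc
    have hcG := mem_cham_facetOf c T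
    set v := parabSum G - parabSum F with hvdef
    set s := P.coroot' j v with hsdef
    have hs : 0 < s := by
      have h1 := ((mem_carrier_iff hcG _).mp (parabSum_mem G) j j.2).2
        ((sgn_facetOf c T j).mpr (Finset.mem_insert_self _ _))
      have h2 := ((mem_carrier_iff hc _).mp (parabSum_mem F) j j.2).1 hj
      rw [hsdef, hvdef, map_sub, h2, sub_zero]
      exact h1
    have hw : v - s • fundWeight c j ∈ Submodule.span R F.corners := by
      have hvG : ∀ k : c.support, k ≠ j → F.sgn k = 0 → P.coroot' k v = 0 := by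
        intro k hk h0
        rw [hvdef, map_sub, ((mem_carrier_iff hc _).mp (parabSum_mem F) k k.2).1 h0,
          sub_zero]
        refine ((mem_carrier_iff hcG _).mp (parabSum_mem G) k k.2).1 ?_
        by_contra hne
        rcases Finset.mem_insert.mp ((sgn_facetOf c T k).mp hne) with h | h
        · exact hk h
        · exact (mem_supp k).mp h h0
      have : v - s • fundWeight c j =
          ∑ k ∈ Finset.univ.erase j, P.coroot' k v • fundWeight c k := by
        rw [sub_eq_iff_eq_add', hsdef, Finset.add_sum_erase _ (fun k : c.support => P.coroot' k v • fundWeight c k) (Finset.mem_univ j)]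
        exact exists_sum_fundWeight c v
      rw [this]
      refine Submodule.sum_mem _ fun k hk => ?_
      by_cases h0 : F.sgn k = 0
      · rw [hvG k (Finset.mem_erase.mp hk).1 h0, zero_smul]; exact Submodule.zero_mem _
      · exact Submodule.smul_mem _ _ (Submodule.subset_span (by
          rw [corners_eq hc]; exact ⟨k, h0, rfl⟩))
    have h0 : P.toLinearMap v (pol P u) = 0 := by
      rw [hvdef, map_sub, LinearMap.sub_apply, sub_eq_zero]
      exact (parabSum_orth hGF (yv_mem_span hd F)).symm
    have hle : P.toLinearMap v (d c) ≤ 0 := by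
      have := hmax G c hcG
      rw [deg_indep hd hb hc, deg_eq, deg_eq] at this
      rw [hvdef, map_sub, LinearMap.sub_apply]
      linarith
    have e : ∀ z, P.toLinearMap v z = P.toLinearMap (v - s • fundWeight c j) z +
        s * P.toLinearMap (fundWeight c j) z := fun z => by
      simp only [map_sub, map_smul, LinearMap.sub_apply, LinearMap.smul_apply, smul_eq_mul]
      ring
    rw [e, pair_y hd hc hw] at h0
    rw [e] at hle
    refine le_of_mul_le_mul_left ?_ hs
    linarith

theorem special_max (hd : IsCCS d) {F : Facet P} {b : P.Base} (hb : b ∈ F.cham)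
    (hF : IsSpecial d F) :
    (∀ (G : Facet P) (c : P.Base), c ∈ G.cham → G.deg d c ≤ F.deg d b) ∧
      ∀ (G : Facet P) (c : P.Base), c ∈ G.cham → G.deg d c = F.deg d b → G ≤ F := by
  classical
  obtain ⟨hc', hs⟩ := (special_iff hd F).mp hF
  set u := yv hd F
  have hdegF : F.deg d b = P.toLinearMap (parabSum F) (pol P u) := by
    rw [deg_eq, pair_y hd hb (parabSum_mem_span F)]
  have hdegG : ∀ (G : Facet P) (c : P.Base), c ∈ G.cham →
      G.deg d c ≤ P.toLinearMap (parabSum G) (pol P u) := fun G c hc => by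
    rw [deg_eq]
    exact pair_le_solid hd (hc (parabSum_mem_carrier G)) (dualSolid_subset_solid F hs)
  have hsign : ∀ i, 0 ≤ P.coroot' i u ↔ i ∈ F.parab := fun i => (parab_iff hc' i).symm
  have key : ∀ G : Facet P, P.toLinearMap (parabSum G) (pol P u) ≤
      P.toLinearMap (parabSum F) (pol P u) ∧
      (P.toLinearMap (parabSum G) (pol P u) = P.toLinearMap (parabSum F) (pol P u) →
        G.parab ⊆ F.parab) := by
    intro G
    rw [ip_parabSum, ip_parabSum]
    set A := (Set.toFinite G.parab).toFinset
    set C := (Set.toFinite F.parab).toFinset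
    set f : ι → R := fun i => len P i * P.coroot' i u
    have hG : ∑ i ∈ A, f i = ∑ i ∈ A \ C, f i + ∑ i ∈ A ∩ C, f i := by
      rw [add_comm, Finset.sum_inter_add_sum_sdiff]
    have hF' : ∑ i ∈ C, f i = ∑ i ∈ C \ A, f i + ∑ i ∈ A ∩ C, f i := by
      rw [Finset.inter_comm, add_comm, Finset.sum_inter_add_sum_sdiff]
    have h1 : ∀ i ∈ A \ C, f i < 0 := fun i hi => by
      simp only [A, C, Finset.mem_sdiff, Set.Finite.mem_toFinset, ← hsign, not_le] at hi
      exact mul_neg_of_pos_of_neg (len_pos P i) hi.2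
    have h2 : 0 ≤ ∑ i ∈ C \ A, f i := Finset.sum_nonneg fun i hi => by
      simp only [A, C, Finset.mem_sdiff, Set.Finite.mem_toFinset, ← hsign] at hi
      exact mul_nonneg (len_pos P i).le hi.1
    have h3 : ∑ i ∈ A \ C, f i ≤ 0 := Finset.sum_nonpos fun i hi => (h1 i hi).le
    refine ⟨by linarith, fun he i hi => ?_⟩
    by_contra hiF
    have hmem : i ∈ A \ C := by simp [A, C, hi, hiF]
    have : ∑ i ∈ A \ C, f i < 0 :=
      Finset.sum_neg h1 ⟨i, hmem⟩
    linarith
  refine ⟨fun G c hc => ?_, fun G c hc he => ?_⟩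
  · exact (hdegG G c hc).trans ((key G).1.trans_eq hdegF.symm)
  · rw [le_iff_parab]
    refine (key G).2 (le_antisymm (key G).1 ?_)
    rw [← hdegF, ← he]
    exact hdegG G c hc

omit [P.IsCrystallographic] [P.IsReduced] in
theorem exists_form : ∃ B : LinearMap.BilinForm R N, (∀ y z : N, B y z = B z y) ∧
    (∀ y : N, y ≠ 0 → 0 < B y y) ∧
    ∀ (i : ι) (y z : N), B (P.coreflection i y) (P.coreflection i z) = B y z := by
  letI := Fintype.ofFinite ι
  refine ⟨ip P.flip, ip_comm P.flip, fun y hy => ip_pos P.flip hy, fun i y z => ?_⟩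
  exact P.flip.rootForm_reflection_reflection_apply i y z

theorem existsUnique_special (hd : IsCCS d) : ∃! F : Facet P, IsSpecial d F := by
  classical
  haveI := finite_facets (P := P)
  have hb : ∀ F : Facet P, ∃ b, b ∈ F.cham := fun F => cham_nonempty F
  choose β hβ using hb
  haveI : Nonempty (Facet P) := ⟨Facet.origin P⟩
  obtain ⟨F₁, hF₁⟩ := Finite.exists_max fun F : Facet P => F.deg d (β F)
  obtain ⟨F, hF⟩ := (Set.toFinite {F : Facet P | F.deg d (β F) = F₁.deg d (β F₁)}).exists_maximal
    ⟨F₁, rfl⟩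
  have hspec : IsSpecial d F := by
    refine max_special hd (hβ F) (fun G c hc => ?_) fun G c hc he hle => ?_
    · rw [deg_indep hd hc (hβ G), hF.prop]
      exact hF₁ G
    · rw [deg_indep hd hc (hβ G)] at he
      exact le_antisymm (hF.2 (he.trans hF.prop) hle) hle
  refine ⟨F, hspec, fun G hG => ?_⟩
  obtain ⟨B, hBs, hBp, hBi⟩ := exists_form (P := P)
  obtain ⟨y, hy, hys, hymin⟩ := special_nearest hd B hBs hBp hBi hspec
  obtain ⟨z, hz, hzs, hzmin⟩ := special_nearest hd B hBs hBp hBi hG
  have hyz : z = y := by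
    by_contra hne
    exact lt_asymm (hymin z hzs hne) (hzmin y hys (Ne.symm hne))
  have h1 := ((special_iff hd F).mp hspec).1
  have h2 := ((special_iff hd G).mp hG).1
  rw [yLocus_eq hd, Set.singleton_eq_singleton_iff] at hy hz
  have he : yv hd G = yv hd F := (pol P).injective (hz.trans (hyz.trans hy.symm))
  exact Facet.ext (h2.symm.trans ((congrArg (sgnVec P) he).trans h1))

end Groth.Agent.RootCh
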